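import Cfsg.Agent.Lib.Lie.TwinPrime.Five
import Cfsg.Agent.S3620

/-!
# Five-fold transitive groups of degree `2r + 3` and `3r + 4`: alternating

A Sylow `r`-subgroup `R` fixing `k + 1` points has `k` orbits of length `r`. Unless `R` has an
element moving only one orbit, the orbit-fixing elements of its normaliser act on it as scalars, and
a commutator gives a non-trivial element moving only the `k + 1` points.
-/

set_option autoImplicit false
set_option linter.style.haveILetI false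

namespace Cfsg.Agent.Lie.TwinPrime

open MulAction
open scoped Pointwise

variable {G Ω : Type*} [Group G] [MulAction G Ω]

/-- The elements leaving a finite set invariant. -/
def finStab (G : Type*) {Ω : Type*} [Group G] [MulAction G Ω] (T : Finset Ω) : Subgroup G where
  carrier := {g | ∀ x, g • x ∈ T ↔ x ∈ T}
  one_mem' := fun x => by simp
  mul_mem' := fun {g h} hg hh x => by rw [mul_smul, hg, hh]
  inv_mem' := fun {g} hg x => by rw [← hg, smul_inv_smul]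

/-- A Sylow `r`-subgroup fixing `T` pointwise, with orbits of length `r` and full normaliser on `T`. -/
structure Setting (R : Subgroup G) (T : Finset Ω) (r : ℕ) : Prop where
  fixT : ∀ ρ ∈ R, ∀ t ∈ T, ρ • t = t
  pgroup : IsPGroup r ↥R
  orbit : ∀ x, x ∉ T → (MulAction.orbit ↥R x).ncard = r
  lift : ∀ g₀ ∈ finStab G T, ∃ g ∈ Subgroup.normalizer (R : Set G), g ∈ finStab G T ∧ ∀ t ∈ T, g • t = g₀ • t

theorem exists_setting [Finite G] [Fintype Ω] [DecidableEq Ω] {r k : ℕ} [Fact r.Prime] (T : Finset Ω)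
    (htr : ∀ x y, x ∉ T → y ∉ T → ∃ g : G, (∀ t ∈ T, g • t = t) ∧ g • x = y)
    (hcount : Fintype.card Ω = k * r + T.card) (hkr : k < r) :
    ∃ R : Subgroup G, Setting R T r := by
  have hr := (Fact.out : r.Prime)
  let φ : ↥(finStab G T) →* Equiv.Perm {x // x ∈ T} :=
    restrictHom (finStab G T) (fun x => x ∈ T) fun g hg x => hg x
  have hker : ∀ g : ↥(finStab G T), g ∈ φ.ker ↔ ∀ t ∈ T, (g : G) • t = t := fun g =>
    ⟨fun h t ht => congrArg Subtype.val (Equiv.congr_fun (MonoidHom.mem_ker.1 h) ⟨t, ht⟩),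
      fun h => MonoidHom.mem_ker.2 (Equiv.ext fun t => Subtype.ext (h t.1 t.2))⟩
  obtain ⟨R0⟩ : Nonempty (Sylow r ↥φ.ker) := inferInstance
  let R : Subgroup G := ((R0 : Subgroup ↥φ.ker).map φ.ker.subtype).map (finStab G T).subtype
  have hfix : ∀ ρ ∈ R, ∀ t ∈ T, ρ • t = t := by
    rintro _ ⟨_, ⟨ρ, -, rfl⟩, rfl⟩ t ht
    exact (hker _).1 ρ.2 t ht
  refine ⟨R, hfix, (R0.isPGroup'.map _).map _, fun x hx => ?_, fun g₀ hg₀ => ?_⟩
  · have hout : orbit ↥R x ⊆ ↑(Finset.univ \ T) := by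
      rintro _ ⟨⟨ρ, hρ⟩, rfl⟩
      simp only [Finset.coe_sdiff, Finset.coe_univ, Set.mem_diff, Set.mem_univ, true_and, Finset.mem_coe]
      intro h
      exact hx ((smul_left_cancel ρ (hfix ρ hρ _ h)) ▸ h)
    have hle : (orbit ↥R x).ncard ≤ k * r := by
      have h := Set.ncard_le_ncard hout (Finset.finite_toSet _)
      rw [Set.ncard_coe_finset, Finset.card_sdiff_of_subset (Finset.subset_univ _), Finset.card_univ, hcount] at h
      omega
    obtain ⟨n, hn'⟩ := ((R0.isPGroup'.map φ.ker.subtype).map (finStab G T).subtype).card_orbit x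
    have hn : (orbit ↥R x).ncard = r ^ n := (Nat.card_coe_set_eq _).symm.trans hn'
    rcases n with _ | _ | n
    · exfalso
      rw [pow_zero, Set.ncard_eq_one] at hn
      obtain ⟨z, hz⟩ := hn
      have hzx : x = z := by rw [← Set.mem_singleton_iff, ← hz]; exact mem_orbit_self x
      have hRx : (R0 : Subgroup ↥φ.ker) ≤ stabilizer ↥φ.ker x := fun ρ hρ => by
        have h1 : (⟨_, Subgroup.mem_map_of_mem _ (Subgroup.mem_map_of_mem _ hρ)⟩ : ↥R) • x ∈ orbit ↥R x :=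
          mem_orbit _ _
        rw [hz, Set.mem_singleton_iff, ← hzx] at h1
        exact h1
      have horb : orbit ↥φ.ker x = ↑(Finset.univ \ T) := by
        refine Set.eq_of_subset_of_subset ?_ ?_
        · rintro _ ⟨g, rfl⟩
          simp only [Finset.coe_sdiff, Finset.coe_univ, Set.mem_diff, Set.mem_univ, true_and, Finset.mem_coe]
          exact fun h => hx ((g.1.2 x).1 h)
        · intro y hy
          simp only [Finset.coe_sdiff, Finset.coe_univ, Set.mem_diff, Set.mem_univ, true_and, Finset.mem_coe] at hy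
          obtain ⟨g, hg, hgx⟩ := htr x y hx hy
          have hgM : g ∈ finStab G T := fun u =>
            ⟨fun h => (smul_left_cancel g (hg _ h)) ▸ h, fun h => by rw [hg u h]; exact h⟩
          exact ⟨⟨⟨g, hgM⟩, (hker _).2 hg⟩, hgx⟩
      have h := Subgroup.index_dvd_of_le hRx
      rw [index_stabilizer, horb, Set.ncard_coe_finset, Finset.card_sdiff_of_subset (Finset.subset_univ _),
        Finset.card_univ, hcount, Nat.add_sub_cancel] at h
      exact R0.not_dvd_index ((dvd_mul_left r k).trans h)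
    · rw [hn, pow_one]
    · exfalso
      have h1 : r ^ 2 ≤ r ^ (n + 1 + 1) := Nat.pow_le_pow_right hr.pos (by omega)
      have h2 : k * r < r ^ 2 := by rw [pow_two]; exact Nat.mul_lt_mul_of_pos_right hkr hr.pos
      omega
  · have htop := Sylow.normalizer_sup_eq_top (N := φ.ker) R0
    have hmem : (⟨g₀, hg₀⟩ : ↥(finStab G T)) ∈ Subgroup.normalizer
        (((R0 : Subgroup ↥φ.ker).map φ.ker.subtype : Subgroup ↥(finStab G T)) : Set ↥(finStab G T)) ⊔ φ.ker :=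
      htop ▸ Subgroup.mem_top _
    obtain ⟨n, hn, s, hs, e⟩ := Subgroup.mem_sup_of_normal_right.1 hmem
    refine ⟨n, ?_, n.2, fun t ht => ?_⟩
    · rw [Subgroup.mem_normalizer_iff] at hn ⊢
      intro ρ
      constructor
      · rintro ⟨ρ', hρ', rfl⟩
        exact ⟨n * ρ' * n⁻¹, (hn ρ').1 hρ', by simp⟩
      · rintro ⟨ρ', hρ', e'⟩
        refine ⟨n⁻¹ * ρ' * n, (hn _).2 (by
          rw [show n * (n⁻¹ * ρ' * n) * n⁻¹ = ρ' by group]; exact hρ'), ?_⟩
        simp only [map_mul, map_inv, e', Subgroup.coe_subtype]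
        group
    · have e' : (n : G) * (s : G) = g₀ := congrArg Subtype.val e
      rw [← e', mul_smul, (hker s).1 hs t ht]

namespace Setting

variable {R : Subgroup G} {T : Finset Ω} {r : ℕ}

theorem smul_notMem (S : Setting R T r) {ρ : G} (hρ : ρ ∈ R) {x : Ω} (hx : x ∉ T) : ρ • x ∉ T :=
  fun h => hx ((smul_left_cancel ρ (S.fixT ρ hρ _ h)) ▸ h)

theorem mem_orbit_smul {ρ : G} (hρ : ρ ∈ R) (x : Ω) : ρ • x ∈ MulAction.orbit ↥R x :=
  ⟨⟨ρ, hρ⟩, rfl⟩

theorem notMem_of_mem_orbit (S : Setting R T r) {x y : Ω} (hx : x ∉ T) (hy : y ∈ MulAction.orbit ↥R x) :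
    y ∉ T := by
  obtain ⟨⟨ρ, hρ⟩, rfl⟩ := hy
  exact S.smul_notMem hρ hx

theorem comm_pow (S : Setting R T r) [Fact r.Prime] [Finite G] [Finite Ω] {x : Ω} (hx : x ∉ T) {ρ σ : G}
    (hρ : ρ ∈ R) (hσ : σ ∈ R) : ρ • σ • x = σ • ρ • x ∧ ρ ^ r • x = x := by
  classical
  let f := MulAction.toPermHom ↥R ↥(MulAction.orbit ↥R x)
  haveI : IsPretransitive ↥f.range ↥(MulAction.orbit ↥R x) := ⟨fun u v => by
    obtain ⟨g, hg⟩ := MulAction.exists_smul_eq ↥R u v
    exact ⟨⟨_, g, rfl⟩, hg⟩⟩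
  obtain ⟨P⟩ : Nonempty (Sylow r ↥f.range) := inferInstance
  have hP := Cfsg.Agent.Lie.HalfNormalizer.sylow_card (Ω := ↥(MulAction.orbit ↥R x))
    (by rw [Nat.card_coe_set_eq, S.orbit x hx]) P
  have hpg : IsPGroup r ↥f.range := by
    rw [MonoidHom.range_eq_map]
    exact (S.pgroup.of_equiv Subgroup.topEquiv.symm).map f
  have htop : (P : Subgroup ↥f.range) = ⊤ :=
    (P.is_maximal' (hpg.of_equiv Subgroup.topEquiv.symm) le_top).symm
  rw [htop, Subgroup.card_top] at hP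
  haveI : IsCyclic ↥f.range := isCyclic_of_prime_card hP
  let ρ' : ↥f.range := ⟨f ⟨ρ, hρ⟩, ⟨_, rfl⟩⟩
  let σ' : ↥f.range := ⟨f ⟨σ, hσ⟩, ⟨_, rfl⟩⟩
  constructor
  · have h : ρ' * σ' = σ' * ρ' := IsCyclic.commGroup.mul_comm ρ' σ'
    exact congrArg (fun z : ↥f.range => (((z : Equiv.Perm _) ⟨x, mem_orbit_self x⟩ : ↥(MulAction.orbit ↥R x)) : Ω)) h
  · have h := pow_card_eq_one' (G := ↥f.range) (x := ρ')
    rw [hP] at h
    have h' : f (⟨ρ, hρ⟩ ^ r) = 1 := by rw [map_pow]; exact congrArg Subtype.val h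
    exact congrArg (fun z : Equiv.Perm ↥(MulAction.orbit ↥R x) => ((z ⟨x, mem_orbit_self x⟩ : ↥(MulAction.orbit ↥R x)) : Ω)) h'

variable [Fact r.Prime] [Finite G] [Finite Ω]

theorem agree (S : Setting R T r) {x y : Ω} (hx : x ∉ T) {ρ σ : G} (hρ : ρ ∈ R) (hσ : σ ∈ R)
    (h : ρ • x = σ • x) (hy : y ∈ MulAction.orbit ↥R x) : ρ • y = σ • y := by
  obtain ⟨⟨τ, hτ⟩, rfl⟩ := hy
  show ρ • τ • x = σ • τ • x
  rw [(S.comm_pow hx hρ hτ).1, h, (S.comm_pow hx hσ hτ).1]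

theorem agree_pow (S : Setting R T r) {x : Ω} (hx : x ∉ T) {ρ σ : G} (hρ : ρ ∈ R) (hσ : σ ∈ R)
    (h : ρ • x = σ • x) (i : ℕ) : ρ ^ i • x = σ ^ i • x := by
  induction i with
  | zero => simp
  | succ i ih =>
    rw [pow_succ', pow_succ', mul_smul, mul_smul, ih,
      S.agree hx hρ hσ h (mem_orbit_smul (R.pow_mem hσ i) x)]

theorem exists_pow (S : Setting R T r) {x y : Ω} (hx : x ∉ T) {τ : G} (hτ : τ ∈ R) (hm : τ • x ≠ x)
    (hy : y ∈ MulAction.orbit ↥R x) : ∃ j : ℕ, τ ^ j • x = y := by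
  classical
  have hr := (Fact.out : r.Prime)
  have hper : period τ x = r :=
    (hr.eq_one_or_self_of_dvd _ (pow_smul_eq_iff_period_dvd.1 (S.comm_pow hx hτ hτ).2)).resolve_left
      fun h => hm (period_eq_one_iff.1 h)
  let f : Fin r → ↥(MulAction.orbit ↥R x) := fun i => ⟨τ ^ (i : ℕ) • x, mem_orbit_smul (R.pow_mem hτ _) x⟩
  have hf : Function.Injective f := by
    have key : ∀ i j : ℕ, i ≤ j → j < r → τ ^ i • x = τ ^ j • x → i = j := by
      intro i j hij hj h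
      have h' : τ ^ (j - i) • x = x := smul_left_cancel (τ ^ i) (by
        rw [← mul_smul, ← pow_add, Nat.add_sub_cancel' hij, h])
      rw [pow_smul_eq_iff_period_dvd, hper] at h'
      rcases Nat.eq_zero_or_pos (j - i) with h0 | h0
      · omega
      · have := Nat.le_of_dvd h0 h'; omega
    intro i j h
    have h' : τ ^ (i : ℕ) • x = τ ^ (j : ℕ) • x := congrArg Subtype.val h
    rcases le_total (i : ℕ) j with hij | hij
    · exact Fin.ext (key i j hij j.2 h')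
    · exact Fin.ext (key j i hij i.2 h'.symm).symm
  have hb := (Nat.bijective_iff_injective_and_card f).2
    ⟨hf, by rw [Nat.card_coe_set_eq, S.orbit x hx, Nat.card_eq_fintype_card, Fintype.card_fin]⟩
  obtain ⟨i, hi⟩ := hb.2 ⟨y, hy⟩
  exact ⟨i, congrArg Subtype.val hi⟩

omit [Fact r.Prime] [Finite G] [Finite Ω] in
theorem smul_orbit_eq {g : G} (hg : g ∈ Subgroup.normalizer (R : Set G)) (x : Ω) :
    g • MulAction.orbit ↥R x = MulAction.orbit ↥R (g • x) := by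
  rw [Subgroup.mem_normalizer_iff] at hg
  ext y
  constructor
  · rintro ⟨_, ⟨⟨ρ, hρ⟩, rfl⟩, rfl⟩
    refine ⟨⟨g * ρ * g⁻¹, (hg ρ).1 hρ⟩, ?_⟩
    show (g * ρ * g⁻¹) • g • x = g • ρ • x
    simp [mul_smul]
  · rintro ⟨⟨ρ, hρ⟩, rfl⟩
    refine ⟨(g⁻¹ * ρ * g) • x, mem_orbit_smul ((hg _).2 (by simpa [mul_assoc] using hρ)) x, ?_⟩
    show g • (g⁻¹ * ρ * g) • x = ρ • g • x
    simp [mul_smul]

/-- An element fixing an orbit conjugates agreeing elements to agreeing elements. -/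
theorem transfer (S : Setting R T r) {x : Ω} (hx : x ∉ T) {n ρ σ : G}
    (hn : n • MulAction.orbit ↥R x = MulAction.orbit ↥R x) (hρ : ρ ∈ R) (hσ : σ ∈ R)
    (h : ρ • x = σ • x) : (n * ρ * n⁻¹) • x = (n * σ * n⁻¹) • x := by
  have hin : n⁻¹ • x ∈ MulAction.orbit ↥R x := by
    rw [← Set.mem_smul_set_iff_inv_smul_mem, hn]; exact mem_orbit_self x
  rw [mul_smul, mul_smul, mul_smul, mul_smul, S.agree hx hρ hσ h hin]

variable [Fintype Ω] [DecidableEq Ω]

omit [Fact r.Prime] [Finite G] [Finite Ω] [DecidableEq Ω] in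
theorem orbit_finite_le (S : Setting R T r) (hr : 0 < r) {k : ℕ}
    (hcount : Fintype.card Ω = k * r + T.card) :
    Nat.card {O : Set Ω // ∃ x, x ∉ T ∧ O = MulAction.orbit ↥R x} ≤ k := by
  classical
  haveI : Fintype {O : Set Ω // ∃ x, x ∉ T ∧ O = MulAction.orbit ↥R x} := Fintype.ofFinite _
  let f : (Σ O : {O : Set Ω // ∃ x, x ∉ T ∧ O = MulAction.orbit ↥R x}, ↥O.1) → {y : Ω // y ∉ T} := fun s =>
    ⟨s.2.1, by
      obtain ⟨x, hx, he⟩ := s.1.2
      exact S.notMem_of_mem_orbit hx (he ▸ s.2.2)⟩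
  have hf : Function.Injective f := by
    rintro ⟨⟨O, x, hx, rfl⟩, y, hy⟩ ⟨⟨O', x', hx', rfl⟩, y', hy'⟩ e
    obtain rfl : y = y' := congrArg Subtype.val e
    have : MulAction.orbit ↥R x = MulAction.orbit ↥R x' :=
      (orbit_eq_iff.2 hy).symm.trans (orbit_eq_iff.2 hy')
    exact Sigma.subtype_ext (Subtype.ext this) rfl
  have h := Nat.card_le_card_of_injective f hf
  rw [Nat.card_sigma, Finset.sum_congr rfl (fun (O : {O : Set Ω // ∃ x, x ∉ T ∧ O = MulAction.orbit ↥R x}) _ => show Nat.card ↥(O.1) = r by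
      obtain ⟨x, hx, he⟩ := O.2
      rw [Nat.card_coe_set_eq, he, S.orbit x hx]), Finset.sum_const, Finset.card_univ, smul_eq_mul,
    Nat.card_eq_fintype_card (α := {y : Ω // y ∉ T}), Fintype.card_subtype_compl, Fintype.card_coe, hcount,
    Nat.add_sub_cancel] at h
  rw [Nat.card_eq_fintype_card]
  exact Nat.le_of_mul_le_mul_right h hr

omit [Finite Ω] in
/-- Without elements moving a single orbit, an orbit-fixing element of the normaliser acts on `R` as a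
scalar. -/
theorem scalar [FaithfulSMul G Ω] (S : Setting R T r) {k : ℕ} (hk : k ≤ 3)
    (hcount : Fintype.card Ω = k * r + T.card)
    (hheavy : ∀ ρ ∈ R, ρ ≠ 1 → ∀ x, x ∉ T → ∃ y, y ∉ MulAction.orbit ↥R x ∧ ρ • y ≠ y)
    {x₁ : Ω} (hx₁ : x₁ ∉ T) {n : G} (hn : n ∈ Subgroup.normalizer (R : Set G))
    (hfixO : ∀ x, x ∉ T → n • MulAction.orbit ↥R x = MulAction.orbit ↥R x) :
    ∃ m : ℕ, ∀ ρ ∈ R, n * ρ * n⁻¹ = ρ ^ m := by
  classical
  have hr := (Fact.out : r.Prime)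
  haveI : Finite Ω := Finite.of_fintype Ω
  have hconj : ∀ ρ ∈ R, n * ρ * n⁻¹ ∈ R := fun ρ hρ => (Subgroup.mem_normalizer_iff.1 hn ρ).1 hρ
  obtain ⟨z, hz, hzx⟩ := Set.exists_ne_of_one_lt_ncard
    (s := MulAction.orbit ↥R x₁) (by rw [S.orbit x₁ hx₁]; exact hr.one_lt) x₁
  obtain ⟨⟨σ, hσ⟩, rfl⟩ := hz
  have hσm : σ • x₁ ≠ x₁ := hzx
  obtain ⟨m, hm⟩ := S.exists_pow hx₁ hσ hσm (mem_orbit_smul (hconj σ hσ) x₁)
  -- the multiplier on the first orbit
  have hm1 : ∀ ρ ∈ R, (n * ρ * n⁻¹) • x₁ = ρ ^ m • x₁ := by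
    intro ρ hρ
    obtain ⟨j, hj⟩ := S.exists_pow hx₁ hσ hσm (mem_orbit_smul hρ x₁)
    rw [S.transfer hx₁ (hfixO x₁ hx₁) hρ (R.pow_mem hσ j) hj.symm, ← conj_pow,
      S.agree_pow hx₁ (hconj σ hσ) (R.pow_mem hσ m) hm.symm j, ← pow_mul, mul_comm, pow_mul,
      S.agree_pow hx₁ hρ (R.pow_mem hσ j) hj.symm m]
  refine ⟨m, fun ρ hρ => ?_⟩
  by_contra hne
  set δ := (ρ ^ m)⁻¹ * (n * ρ * n⁻¹) with hδ
  have hδR : δ ∈ R := R.mul_mem (R.inv_mem (R.pow_mem hρ m)) (hconj ρ hρ)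
  have hδ1 : δ ≠ 1 := fun h => hne (inv_mul_eq_one.1 (hδ ▸ h)).symm
  have hδx : δ • x₁ = x₁ := by rw [hδ, mul_smul, hm1 ρ hρ, inv_smul_smul]
  obtain ⟨y₂, hy₂, hδ2⟩ := hheavy δ hδR hδ1 x₁ hx₁
  have hy₂T : y₂ ∉ T := fun h => hδ2 (S.fixT δ hδR _ h)
  obtain ⟨y₃, hy₃, hδ3⟩ := hheavy δ hδR hδ1 y₂ hy₂T
  have hy₃T : y₃ ∉ T := fun h => hδ3 (S.fixT δ hδR _ h)
  have hy₃1 : y₃ ∉ MulAction.orbit ↥R x₁ := fun h => hδ3 (by
    have := S.agree hx₁ hδR R.one_mem (by rw [hδx, one_smul]) h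
    rwa [one_smul] at this)
  -- there are no further orbits
  have hthree : ∀ w, w ∉ T → w ∈ MulAction.orbit ↥R x₁ ∨ w ∈ MulAction.orbit ↥R y₂ ∨
      w ∈ MulAction.orbit ↥R y₃ := by
    intro w hw
    by_contra hc
    simp only [not_or] at hc
    let q : Fin 4 → {O : Set Ω // ∃ x, x ∉ T ∧ O = MulAction.orbit ↥R x} :=
      ![⟨_, x₁, hx₁, rfl⟩, ⟨_, y₂, hy₂T, rfl⟩, ⟨_, y₃, hy₃T, rfl⟩, ⟨_, w, hw, rfl⟩]
    have hq : Function.Injective q := by
      have no : ∀ {u v : Ω}, v ∉ MulAction.orbit ↥R u →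
          MulAction.orbit ↥R u ≠ MulAction.orbit ↥R v := fun h e => h (e ▸ mem_orbit_self _)
      intro i j e
      have e' := congrArg Subtype.val e
      fin_cases i <;> fin_cases j <;> simp [q] at e' ⊢ <;>
        first
        | exact no hy₂ e' | exact no hy₂ e'.symm | exact no hy₃ e' | exact no hy₃ e'.symm
        | exact no hy₃1 e' | exact no hy₃1 e'.symm | exact no hc.1 e' | exact no hc.1 e'.symm
        | exact no hc.2.1 e' | exact no hc.2.1 e'.symm | exact no hc.2.2 e' | exact no hc.2.2 e'.symm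
    have h4 := (Nat.card_le_card_of_injective q hq).trans (S.orbit_finite_le hr.pos hcount)
    rw [Nat.card_eq_fintype_card, Fintype.card_fin] at h4
    omega
  -- an element fixing the second orbit
  obtain ⟨j, hj⟩ := S.exists_pow hy₂T hδR hδ2 (mem_orbit_smul hσ y₂)
  set τ := (δ ^ j)⁻¹ * σ with hτ
  have hτR : τ ∈ R := R.mul_mem (R.inv_mem (R.pow_mem hδR j)) hσ
  have hτ2 : τ • y₂ = y₂ := by rw [hτ, mul_smul, ← hj, inv_smul_smul]
  have hτ1 : τ • x₁ ≠ x₁ := by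
    intro h
    rw [hτ, mul_smul, inv_smul_eq_iff, smul_eq_of_fixed hδx j] at h
    exact hσm h
  have hτne : τ ≠ 1 := fun h => hτ1 (by rw [h, one_smul])
  have hτ3 : τ • y₃ ≠ y₃ := by
    intro h
    obtain ⟨w, hw, hmw⟩ := hheavy τ hτR hτne x₁ hx₁
    have hwT : w ∉ T := fun h' => hmw (S.fixT τ hτR _ h')
    rcases hthree w hwT with h' | h' | h'
    · exact hw h'
    · exact hmw (by simpa using S.agree hy₂T hτR R.one_mem (by rw [hτ2, one_smul]) h')
    · exact hmw (by simpa using S.agree hy₃T hτR R.one_mem (by rw [h, one_smul]) h')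
  have hτm : n * τ * n⁻¹ = τ ^ m := by
    by_contra hne'
    set ε := (τ ^ m)⁻¹ * (n * τ * n⁻¹) with hε
    have hεR : ε ∈ R := R.mul_mem (R.inv_mem (R.pow_mem hτR m)) (hconj τ hτR)
    have hε1 : ε ≠ 1 := fun h => hne' (inv_mul_eq_one.1 (hε ▸ h)).symm
    have hεx : ε • x₁ = x₁ := by rw [hε, mul_smul, hm1 τ hτR, inv_smul_smul]
    have hεy : ε • y₂ = y₂ := by
      have h1 := S.transfer hy₂T (hfixO y₂ hy₂T) hτR R.one_mem (by rw [hτ2, one_smul])
      rw [mul_one, mul_inv_cancel, one_smul] at h1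
      rw [hε, mul_smul, h1, inv_smul_eq_iff, smul_eq_of_fixed hτ2 m]
    obtain ⟨w, hw, hmw⟩ := hheavy ε hεR hε1 y₃ hy₃T
    have hwT : w ∉ T := fun h' => hmw (S.fixT ε hεR _ h')
    rcases hthree w hwT with h' | h' | h'
    · exact hmw (by simpa using S.agree hx₁ hεR R.one_mem (by rw [hεx, one_smul]) h')
    · exact hmw (by simpa using S.agree hy₂T hεR R.one_mem (by rw [hεy, one_smul]) h')
    · exact hw h'
  obtain ⟨i, hi⟩ := S.exists_pow hy₃T hτR hτ3 (mem_orbit_smul hρ y₃)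
  refine hδ3 ?_
  rw [hδ, mul_smul, S.transfer hy₃T (hfixO y₃ hy₃T) hρ (R.pow_mem hτR i) hi.symm, ← conj_pow, hτm,
    ← pow_mul, mul_comm, pow_mul, ← S.agree_pow hy₃T hρ (R.pow_mem hτR i) hi.symm m, inv_smul_smul]
where
  smul_eq_of_fixed {g : G} {x : Ω} (h : g • x = x) (j : ℕ) : g ^ j • x = x := by
    induction j with
    | zero => simp
    | succ j ih => rw [pow_succ, mul_smul, h, ih]

omit [DecidableEq Ω] in
/-- A commutator with a scalar element gives an element moving only points of `T`. -/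
theorem commutator_pow_fix (S : Setting R T r) {g n : G} {m : ℕ}
    (hg : g ∈ Subgroup.normalizer (R : Set G)) (hgT : g ∈ finStab G T)
    (hfixO : ∀ x, x ∉ T → n • MulAction.orbit ↥R x = MulAction.orbit ↥R x)
    (hm : ∀ ρ ∈ R, n * ρ * n⁻¹ = ρ ^ m) {x : Ω} (hx : x ∉ T) :
    (g * n * g⁻¹ * n⁻¹) ^ r • x = x := by
  haveI : Finite Ω := Finite.of_fintype Ω
  have hinvT : g⁻¹ • x ∉ T := fun h => hx (by have := (hgT _).2 h; rwa [smul_inv_smul] at this)
  set c := g * n * g⁻¹ * n⁻¹ with hc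
  have hcO : c • MulAction.orbit ↥R x = MulAction.orbit ↥R x := by
    have h1 : n⁻¹ • MulAction.orbit ↥R x = MulAction.orbit ↥R x := inv_smul_eq_iff.2 (hfixO x hx).symm
    rw [hc, mul_smul, mul_smul, mul_smul, h1, smul_orbit_eq (Subgroup.inv_mem _ hg), hfixO _ hinvT,
      smul_orbit_eq hg, smul_inv_smul]
  have hconjR : ∀ ρ ∈ R, g⁻¹ * ρ * g ∈ R := fun ρ hρ => by
    have := (Subgroup.mem_normalizer_iff.1 (Subgroup.inv_mem _ hg) ρ).1 hρ
    simpa using this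
  have hgn : ∀ ρ ∈ R, g * n * g⁻¹ * ρ * (g * n * g⁻¹)⁻¹ = ρ ^ m := by
    intro ρ hρ
    calc g * n * g⁻¹ * ρ * (g * n * g⁻¹)⁻¹ = g * (n * (g⁻¹ * ρ * g) * n⁻¹) * g⁻¹ := by group
      _ = g * (g⁻¹ * ρ * g) ^ m * g⁻¹ := by rw [hm _ (hconjR ρ hρ)]
      _ = (g * (g⁻¹ * ρ * g) * g⁻¹) ^ m := conj_pow.symm
      _ = ρ ^ m := by congr 1; group
  have hcent : ∀ ρ ∈ R, c * ρ = ρ * c := by
    have hinj : Function.Injective fun σ : ↥R => (⟨n * σ.1 * n⁻¹, by rw [hm σ.1 σ.2]; exact R.pow_mem σ.2 m⟩ : ↥R) :=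
      fun a b e => Subtype.ext (mul_left_cancel (mul_right_cancel (congrArg Subtype.val e)))
    intro ρ hρ
    obtain ⟨σ, hσ⟩ := (Finite.injective_iff_surjective.1 hinj) ⟨ρ, hρ⟩
    have hσ' : n * (σ : G) * n⁻¹ = ρ := congrArg Subtype.val hσ
    have hσm : (σ : G) ^ m = ρ := (hm σ.1 σ.2).symm.trans hσ'
    rw [← mul_inv_eq_iff_eq_mul, hc]
    calc g * n * g⁻¹ * n⁻¹ * ρ * (g * n * g⁻¹ * n⁻¹)⁻¹
        = g * n * g⁻¹ * (n⁻¹ * ρ * n) * (g * n * g⁻¹)⁻¹ := by group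
      _ = g * n * g⁻¹ * σ * (g * n * g⁻¹)⁻¹ := by rw [← hσ']; group
      _ = ρ := by rw [hgn σ.1 σ.2, hσm]
  have hcx : c • x ∈ MulAction.orbit ↥R x := by
    rw [← hcO]; exact Set.smul_mem_smul_set (mem_orbit_self x)
  obtain ⟨⟨ρ, hρ⟩, he⟩ := hcx
  have he' : ρ • x = c • x := he
  have hpow : ∀ i : ℕ, c ^ i • x = ρ ^ i • x := by
    intro i
    induction i with
    | zero => simp
    | succ i ih =>
      rw [pow_succ', mul_smul, ih, ← mul_smul, hcent _ (R.pow_mem hρ i), mul_smul, ← he', ← mul_smul, ← pow_succ]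
  rw [hpow, (S.comm_pow hx hρ hρ).2]

end Setting

end Cfsg.Agent.Lie.TwinPrime
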