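import Cfsg.Agent.Lib.Lie.TwinPrime.Alt

/-!
# Prime degree `q + 2 = k r + k + 1` with half normaliser: the alternating group
-/

set_option autoImplicit false
set_option linter.style.haveILetI false

namespace Cfsg.Agent.Lie.TwinPrime

open MulAction
open scoped Pointwise

variable {Ω : Type*} [Fintype Ω] [DecidableEq Ω]

/-- An even permutation moving at most three points is a three-cycle. -/
theorem isThreeCycle_of_even {c : Equiv.Perm Ω} {u v w : Ω} (hc : c ∈ alternatingGroup Ω) (hne : c ≠ 1)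
    (hsupp : ∀ x, x ≠ u → x ≠ v → x ≠ w → c x = x) : c.IsThreeCycle := by
  have hsub : c.support ⊆ {u, v, w} := by
    intro x hx
    rw [Equiv.Perm.mem_support] at hx
    simp only [Finset.mem_insert, Finset.mem_singleton]
    by_contra h
    simp only [not_or] at h
    exact hx (hsupp x h.1 h.2.1 h.2.2)
  have h3 : c.support.card ≤ 3 := (Finset.card_le_card hsub).trans Finset.card_le_three
  have h2 := Equiv.Perm.two_le_card_support_of_ne_one hne
  rw [← card_support_eq_three_iff]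
  rcases (show c.support.card = 2 ∨ c.support.card = 3 by omega) with h | h
  · have hs : c.IsSwap := Equiv.Perm.card_support_eq_two.1 h
    have := hs.sign_eq
    rw [Equiv.Perm.mem_alternatingGroup.1 hc] at this
    exact absurd this (by decide)
  · exact h

/-- An element of `R` moving a single orbit: a Jordan set of size `r`. -/
theorem alternating_le_of_light (H : Subgroup (Equiv.Perm Ω)) (h2 : IsMultiplyPretransitive H Ω 2)
    {R : Subgroup ↥H} {T : Finset Ω} {r : ℕ} [Fact r.Prime] (S : Setting R T r)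
    (hr : 2 * r < Fintype.card Ω) {ρ : ↥H} (hρ : ρ ∈ R) (hne : ρ ≠ 1) {x : Ω} (hx : x ∉ T)
    (hlight : ∀ y, y ∉ MulAction.orbit ↥R x → ρ • y = y) : alternatingGroup Ω ≤ H := by
  haveI := h2
  haveI : IsPretransitive ↥H Ω := MulAction.isPretransitive_of_is_two_pretransitive
  haveI : IsPreprimitive ↥H Ω := MulAction.isPreprimitive_of_is_two_pretransitive h2
  set Γ := MulAction.orbit ↥R x with hΓ
  have hmv : ρ • x ≠ x := by
    intro h
    refine hne (eq_of_smul_eq_smul fun y : Ω => ?_)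
    rw [one_smul]
    by_cases hy : y ∈ Γ
    · simpa using S.agree hx hρ R.one_mem (by rw [h, one_smul]) hy
    · exact hlight y hy
  have hfix : ρ ∈ fixingSubgroup ↥H Γᶜ := by
    rw [mem_fixingSubgroup_iff]
    exact fun y hy => hlight y hy
  have hJ : IsPretransitive ↥(fixingSubgroup ↥H Γᶜ) ↥(SubMulAction.ofFixingSubgroup ↥H Γᶜ) := by
    refine ⟨fun u v => ?_⟩
    have hu : (u : Ω) ∈ Γ := not_not.1 ((SubMulAction.mem_ofFixingSubgroup_iff _).1 u.2)
    have hv : (v : Ω) ∈ Γ := not_not.1 ((SubMulAction.mem_ofFixingSubgroup_iff _).1 v.2)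
    obtain ⟨i, hi⟩ := S.exists_pow hx hρ hmv hu
    obtain ⟨j, hj⟩ := S.exists_pow hx hρ hmv hv
    refine ⟨⟨ρ ^ j * (ρ ^ i)⁻¹, Subgroup.mul_mem _ (Subgroup.pow_mem _ hfix j)
      (Subgroup.inv_mem _ (Subgroup.pow_mem _ hfix i))⟩, Subtype.ext ?_⟩
    show (ρ ^ j * (ρ ^ i)⁻¹) • (u : Ω) = (v : Ω)
    rw [← hi, mul_smul, inv_smul_smul, hj]
  have h := Cfsg.Agent.S3620.result (G := ↥H) (Ω := Ω) (fun N hN hNbot => by
      haveI := hN
      refine IsQuasiPreprimitive.isPretransitive_of_normal (G := ↥H) fun h => hNbot ?_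
      rw [eq_bot_iff]
      intro g hg
      refine Subgroup.mem_bot.2 (eq_of_smul_eq_smul fun y : Ω => ?_)
      rw [one_smul]
      exact (show y ∈ fixedPoints (↥N) Ω from h ▸ Set.mem_univ y) ⟨g, hg⟩)
    Γ (by rw [hΓ, S.orbit x hx]; exact (Fact.out : r.Prime).one_lt)
    (by rw [hΓ, S.orbit x hx]; exact hr) hJ
  intro σ hσ
  obtain ⟨g, hg⟩ := h σ (Equiv.Perm.mem_alternatingGroup.1 hσ)
  have : (g : Equiv.Perm Ω) = σ := Equiv.ext fun y => Equiv.congr_fun hg y
  exact this ▸ g.2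

set_option maxHeartbeats 1600000 in
/-- Five-fold transitive groups of even permutations of degree `k r + k + 1`. -/
theorem alternating_le (H : Subgroup (Equiv.Perm Ω)) (hAlt : H ≤ alternatingGroup Ω)
    (h5 : IsMultiplyPretransitive H Ω 5) {r k : ℕ} [Fact r.Prime] (hr5 : 5 ≤ r) (hk : k = 2 ∨ k = 3)
    (hcount : Fintype.card Ω = k * r + (k + 1)) : alternatingGroup Ω ≤ H := by
  have hr := (Fact.out : r.Prime)
  haveI := h5
  have h12 : 5 ≤ Nat.card Ω := by
    rw [Nat.card_eq_fintype_card, hcount]; rcases hk with rfl | rfl <;> omega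
  have h2 : IsMultiplyPretransitive H Ω 2 := isMultiplyPretransitive_of_le (n := 5) (by norm_num) h12
  haveI := h2
  haveI : IsPretransitive ↥H Ω := MulAction.isPretransitive_of_is_two_pretransitive
  haveI : IsPreprimitive ↥H Ω := MulAction.isPreprimitive_of_is_two_pretransitive h2
  have h4 : IsMultiplyPretransitive H Ω 4 := isMultiplyPretransitive_of_le (n := 5) (by norm_num) h12
  have move4 : ∀ {a b c d a' b' c' d' : Ω}, [a, b, c, d].Nodup → [a', b', c', d'].Nodup →
      ∃ g : H, g • a = a' ∧ g • b = b' ∧ g • c = c' ∧ g • d = d' := by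
    intro a b c d a' b' c' d' h h'
    obtain ⟨g, hg⟩ := h4.exists_smul_eq
      ⟨[a, b, c, d].get, List.nodup_iff_injective_get.1 h⟩
      ⟨[a', b', c', d'].get, List.nodup_iff_injective_get.1 h'⟩
    exact ⟨g, DFunLike.congr_fun hg ⟨0, by simp⟩, DFunLike.congr_fun hg ⟨1, by simp⟩,
      DFunLike.congr_fun hg ⟨2, by simp⟩, DFunLike.congr_fun hg ⟨3, by simp⟩⟩
  have move5 : ∀ {a b c d e a' b' c' d' e' : Ω}, [a, b, c, d, e].Nodup → [a', b', c', d', e'].Nodup →
      ∃ g : H, g • a = a' ∧ g • b = b' ∧ g • c = c' ∧ g • d = d' ∧ g • e = e' := by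
    intro a b c d e a' b' c' d' e' h h'
    obtain ⟨g, hg⟩ := h5.exists_smul_eq
      ⟨[a, b, c, d, e].get, List.nodup_iff_injective_get.1 h⟩
      ⟨[a', b', c', d', e'].get, List.nodup_iff_injective_get.1 h'⟩
    exact ⟨g, DFunLike.congr_fun hg ⟨0, by simp⟩, DFunLike.congr_fun hg ⟨1, by simp⟩,
      DFunLike.congr_fun hg ⟨2, by simp⟩, DFunLike.congr_fun hg ⟨3, by simp⟩,
      DFunLike.congr_fun hg ⟨4, by simp⟩⟩
  obtain ⟨T, -, hT⟩ := Finset.exists_subset_card_eq (s := (Finset.univ : Finset Ω)) (n := k + 1)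
    (by rw [Finset.card_univ, hcount]; omega)
  -- transitivity outside T
  have htr : ∀ x y, x ∉ T → y ∉ T → ∃ g : H, (∀ t ∈ T, g • t = t) ∧ g • x = y := by
    intro x y hx hy
    rcases hk with rfl | rfl
    · obtain ⟨a, b, c, hab, hac, hbc, rfl⟩ := Finset.card_eq_three.1 hT
      simp only [Finset.mem_insert, Finset.mem_singleton, not_or] at hx hy
      obtain ⟨g, ga, gb, gc, gx⟩ := move4 (a := a) (b := b) (c := c) (d := x) (a' := a) (b' := b) (c' := c)
        (d' := y) (by simp [hab, hac, hbc, Ne.symm hx.1, Ne.symm hx.2.1, Ne.symm hx.2.2])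
        (by simp [hab, hac, hbc, Ne.symm hy.1, Ne.symm hy.2.1, Ne.symm hy.2.2])
      exact ⟨g, by simp [ga, gb, gc], gx⟩
    · obtain ⟨a, b, c, d, hab, hac, had, hbc, hbd, hcd, rfl⟩ := Finset.card_eq_four.1 hT
      simp only [Finset.mem_insert, Finset.mem_singleton, not_or] at hx hy
      obtain ⟨g, ga, gb, gc, gd, gx⟩ := move5 (a := a) (b := b) (c := c) (d := d) (e := x) (a' := a)
        (b' := b) (c' := c) (d' := d) (e' := y)
        (by simp [hab, hac, had, hbc, hbd, hcd, Ne.symm hx.1, Ne.symm hx.2.1, Ne.symm hx.2.2.1, Ne.symm hx.2.2.2])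
        (by simp [hab, hac, had, hbc, hbd, hcd, Ne.symm hy.1, Ne.symm hy.2.1, Ne.symm hy.2.2.1, Ne.symm hy.2.2.2])
      exact ⟨g, by simp [ga, gb, gc, gd], gx⟩
  have hcountT : Fintype.card Ω = k * r + T.card := by rw [hT]; exact hcount
  obtain ⟨R, S⟩ := exists_setting (G := ↥H) (r := r) T htr hcountT (by omega)
  by_cases hlight : ∃ ρ ∈ R, ρ ≠ 1 ∧ ∃ x, x ∉ T ∧ ∀ y, y ∉ MulAction.orbit ↥R x → ρ • y = y
  · obtain ⟨ρ, hρ, hne, x, hx, h⟩ := hlight
    exact alternating_le_of_light H h2 S (by rw [hcount]; rcases hk with rfl | rfl <;> omega) hρ hne hx h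
  push Not at hlight
  have hheavy : ∀ ρ ∈ R, ρ ≠ 1 → ∀ x, x ∉ T → ∃ y, y ∉ MulAction.orbit ↥R x ∧ ρ • y ≠ y := hlight
  obtain ⟨x₁, -, hx₁⟩ := Finset.exists_mem_notMem_of_card_lt_card (s := T) (t := Finset.univ) (by
    rw [Finset.card_univ, hT, hcount]
    have : 0 < k * r := Nat.mul_pos (by omega) hr.pos
    omega)
  -- elements fixing every orbit
  have hpow : ∀ ν ∈ Subgroup.normalizer (R : Set ↥H), ν ∈ finStab ↥H T → ∀ x, x ∉ T →
      ν ^ k.factorial • MulAction.orbit ↥R x = MulAction.orbit ↥R x := by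
    intro ν hν hνT x hx
    let Q := Subgroup.normalizer (R : Set ↥H) ⊓ finStab ↥H T
    let P : Set Ω → Prop := fun O => ∃ z, z ∉ T ∧ O = MulAction.orbit ↥R z
    have hQ : ∀ g ∈ Q, ∀ O, P (g • O) ↔ P O := by
      intro g hg O
      obtain ⟨hgN, hgT⟩ := Subgroup.mem_inf.1 hg
      constructor
      · rintro ⟨z, hz, he⟩
        refine ⟨g⁻¹ • z, fun h => hz (by simpa using (hgT (g⁻¹ • z)).2 h), ?_⟩
        rw [← Setting.smul_orbit_eq (Subgroup.inv_mem _ hgN), ← he, inv_smul_smul]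
      · rintro ⟨z, hz, rfl⟩
        exact ⟨g • z, fun h => hz ((hgT z).1 h), Setting.smul_orbit_eq hgN z⟩
    classical
    haveI : Fintype {O : Set Ω // P O} := Fintype.ofFinite _
    let ψ : ↥Q →* Equiv.Perm {O : Set Ω // P O} := restrictHom Q P hQ
    have hc : Fintype.card {O : Set Ω // P O} ≤ k := by
      rw [← Nat.card_eq_fintype_card]; exact S.orbit_finite_le hr.pos hcountT
    have h1 : ψ ⟨ν, Subgroup.mem_inf.2 ⟨hν, hνT⟩⟩ ^ k.factorial = 1 := by
      obtain ⟨j, hj⟩ := Nat.factorial_dvd_factorial hc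
      rw [hj, pow_mul, ← Fintype.card_perm, pow_card_eq_one, one_pow]
    rw [← map_pow] at h1
    exact congrArg Subtype.val (Equiv.congr_fun h1 ⟨_, x, hx, rfl⟩)
  rcases hk with rfl | rfl
  · obtain ⟨a, b, c, hab, hac, hbc, hTe⟩ := Finset.card_eq_three.1 hT
    obtain ⟨d, hd⟩ : ∃ d, d ∉ T := ⟨x₁, hx₁⟩
    have hTst : ∀ g : ↥H, (∀ t ∈ T, g • t ∈ T) → g ∈ finStab ↥H T := by
      intro g hg x
      refine ⟨fun h => ?_, hg x⟩
      obtain ⟨t, ht, e⟩ := Finset.surj_on_of_inj_on_of_card_le (s := T) (t := T) (fun t _ => g • t)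
        (fun t ht => hg t ht) (fun t u _ _ e => smul_left_cancel g e) le_rfl (g • x) h
      exact (smul_left_cancel g e.symm) ▸ ht
    have hd' : d ≠ a ∧ d ≠ b ∧ d ≠ c := by simpa [hTe] using hd
    have nd : [a, b, c, d].Nodup := by simp [hab, hac, hbc, Ne.symm hd'.1, Ne.symm hd'.2.1, Ne.symm hd'.2.2]
    obtain ⟨ν₀, ν1, ν2, ν3, -⟩ := move4 nd (a' := b) (b' := c) (c' := a) (d' := d)
      (by simp [hab.symm, hac.symm, hbc, Ne.symm hd'.1, Ne.symm hd'.2.1, Ne.symm hd'.2.2])
    obtain ⟨g₀, g1, g2, g3, -⟩ := move4 nd (a' := b) (b' := a) (c' := c) (d' := d)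
      (by simp [hab.symm, hac, hbc, Ne.symm hd'.1, Ne.symm hd'.2.1, Ne.symm hd'.2.2])
    obtain ⟨ν, hν, hνT, hνe⟩ := S.lift ν₀ (hTst _ (by simp [hTe, ν1, ν2, ν3]))
    obtain ⟨g, hg, hgT, hge⟩ := S.lift g₀ (hTst _ (by simp [hTe, g1, g2, g3]))
    rw [hTe] at hνe hge
    have va : ν • a = b := (hνe a (by simp)).trans ν1
    have vb : ν • b = c := (hνe b (by simp)).trans ν2
    have vc : ν • c = a := (hνe c (by simp)).trans ν3
    have ga : g • a = b := (hge a (by simp)).trans g1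
    have gb : g • b = a := (hge b (by simp)).trans g2
    have gc : g • c = c := (hge c (by simp)).trans g3
    have hnO := hpow ν hν hνT
    obtain ⟨m, hm⟩ := S.scalar (by norm_num) hcountT hheavy hx₁ (Subgroup.pow_mem _ hν _) hnO
    set n := ν ^ (2 : ℕ).factorial with hn
    have na : n • a = c := by simp [hn, pow_two, mul_smul, va, vb]
    have nb : n • b = a := by simp [hn, pow_two, mul_smul, vb, vc]
    have nc : n • c = b := by simp [hn, pow_two, mul_smul, vc, va]
    set κ := g * n * g⁻¹ * n⁻¹ with hκ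
    have inv' : ∀ {h : ↥H} {u v : Ω}, h • u = v → h⁻¹ • v = u := fun e => inv_smul_eq_iff.2 e.symm
    have ka : κ • a = c := by rw [hκ, mul_smul, mul_smul, mul_smul, inv' nb, inv' ga, na, gc]
    have kb : κ • b = a := by rw [hκ, mul_smul, mul_smul, mul_smul, inv' nc, inv' gc, nc, gb]
    have kc : κ • c = b := by rw [hκ, mul_smul, mul_smul, mul_smul, inv' na, inv' gb, nb, ga]
    have k3 : κ ^ 3 • a = a := by simp [pow_succ, mul_smul, ka, kb, kc]
    have hra : κ ^ r • a ≠ a := by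
      intro h
      have hd1 := pow_smul_eq_iff_period_dvd.1 h
      have hd3 := pow_smul_eq_iff_period_dvd.1 k3
      have h1 := Nat.dvd_gcd hd1 hd3
      rw [(Nat.coprime_primes hr Nat.prime_three).2 (by omega), Nat.dvd_one, period_eq_one_iff, ka] at h1
      exact hac h1.symm
    refine Equiv.Perm.alternatingGroup_le_of_isPreprimitive_of_isThreeCycle_mem inferInstance
      (isThreeCycle_of_even (u := a) (v := b) (w := c) (hAlt (κ ^ r).2) (fun e => hra ?_) fun x h1 h3 h4 => ?_)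
      (κ ^ r).2
    · exact Equiv.congr_fun e a
    · exact S.commutator_pow_fix hg hgT hnO hm (by simp [hTe, h1, h3, h4])
  · obtain ⟨a, b, c, d, hab, hac, had, hbc, hbd, hcd, hTe⟩ := Finset.card_eq_four.1 hT
    have hTst : ∀ g : ↥H, (∀ t ∈ T, g • t ∈ T) → g ∈ finStab ↥H T := by
      intro g hg x
      refine ⟨fun h => ?_, hg x⟩
      obtain ⟨t, ht, e⟩ := Finset.surj_on_of_inj_on_of_card_le (s := T) (t := T) (fun t _ => g • t)
        (fun t ht => hg t ht) (fun t u _ _ e => smul_left_cancel g e) le_rfl (g • x) h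
      exact (smul_left_cancel g e.symm) ▸ ht
    have nd : [a, b, c, d].Nodup := by simp [hab, hac, had, hbc, hbd, hcd]
    obtain ⟨ν₀, ν1, ν2, ν3, ν4⟩ := move4 nd (a' := b) (b' := c) (c' := d) (d' := a)
      (by simp [hab.symm, hac.symm, had.symm, hbc, hbd, hcd])
    obtain ⟨g₀, g1, g2, g3, g4⟩ := move4 nd (a' := b) (b' := c) (c' := a) (d' := d)
      (by simp [hab.symm, hac.symm, had, hbc, hbd, hcd])
    obtain ⟨ν, hν, hνT, hνe⟩ := S.lift ν₀ (hTst _ (by simp [hTe, ν1, ν2, ν3, ν4]))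
    obtain ⟨g, hg, hgT, hge⟩ := S.lift g₀ (hTst _ (by simp [hTe, g1, g2, g3, g4]))
    rw [hTe] at hνe hge
    have va : ν • a = b := (hνe a (by simp)).trans ν1
    have vb : ν • b = c := (hνe b (by simp)).trans ν2
    have vc : ν • c = d := (hνe c (by simp)).trans ν3
    have vd : ν • d = a := (hνe d (by simp)).trans ν4
    have ga : g • a = b := (hge a (by simp)).trans g1
    have gb : g • b = c := (hge b (by simp)).trans g2
    have gc : g • c = a := (hge c (by simp)).trans g3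
    have gd : g • d = d := (hge d (by simp)).trans g4
    have hnO := hpow ν hν hνT
    obtain ⟨m, hm⟩ := S.scalar le_rfl hcountT hheavy hx₁ (Subgroup.pow_mem _ hν _) hnO
    set n := ν ^ (3 : ℕ).factorial with hn
    have na : n • a = c := by simp [hn, Nat.factorial, pow_succ, mul_smul, va, vb, vc, vd]
    have nb : n • b = d := by simp [hn, Nat.factorial, pow_succ, mul_smul, va, vb, vc, vd]
    have nc : n • c = a := by simp [hn, Nat.factorial, pow_succ, mul_smul, va, vb, vc, vd]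
    have nd' : n • d = b := by simp [hn, Nat.factorial, pow_succ, mul_smul, va, vb, vc, vd]
    set κ := g * n * g⁻¹ * n⁻¹ with hκ
    have inv' : ∀ {h : ↥H} {u v : Ω}, h • u = v → h⁻¹ • v = u := fun e => inv_smul_eq_iff.2 e.symm
    have ka : κ • a = d := by rw [hκ, mul_smul, mul_smul, mul_smul, inv' nc, inv' gb, nb, gd]
    have kb : κ • b = c := by rw [hκ, mul_smul, mul_smul, mul_smul, inv' nd', inv' gd, nd', gb]
    have kc : κ • c = b := by rw [hκ, mul_smul, mul_smul, mul_smul, inv' na, inv' gc, nc, ga]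
    have kd : κ • d = a := by rw [hκ, mul_smul, mul_smul, mul_smul, inv' nb, inv' ga, na, gc]
    have podd : ∀ {u v : Ω}, κ • u = v → κ • v = u → κ ^ r • u = v := by
      intro u v h1 h3
      obtain ⟨j, hj⟩ := hr.odd_of_ne_two (by omega)
      have he : ∀ j : ℕ, κ ^ (2 * j) • u = u := by
        intro j
        induction j with
        | zero => simp
        | succ j ih => rw [show 2 * (j + 1) = 2 + 2 * j by ring, pow_add, mul_smul, ih, pow_two, mul_smul, h1, h3]
      rw [hj, pow_succ', mul_smul, he, h1]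
    set C := κ ^ r with hC
    have Ca : C • a = d := podd ka kd
    have Cd : C • d = a := podd kd ka
    have Cb : C • b = c := podd kb kc
    have Cc : C • c = b := podd kc kb
    have Cfix : ∀ x, x ≠ a → x ≠ b → x ≠ c → x ≠ d → C • x = x := fun x h1 h3 h4 h5 =>
      S.commutator_pow_fix hg hgT hnO hm (by simp [hTe, h1, h3, h4, h5])
    obtain ⟨e, he⟩ : ∃ e, e ∉ T := ⟨x₁, hx₁⟩
    have he' : e ≠ a ∧ e ≠ b ∧ e ≠ c ∧ e ≠ d := by simpa [hTe] using he
    obtain ⟨w, wa, wd, wb, wc⟩ := move4 (a := a) (b := d) (c := b) (d := c) (a' := a) (b' := d) (c' := b)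
      (d' := e) (by simp [had, hab, hac, hbd.symm, hcd.symm, hbc])
      (by simp [had, hab, he'.1.symm, hbd.symm, he'.2.2.2.symm, he'.2.1.symm])
    set D := C * (w * C * w⁻¹) with hD
    have Db : D • b ≠ b := by
      rw [hD, mul_smul, mul_smul, mul_smul, inv' wb, Cb, wc, Cfix e he'.1 he'.2.1 he'.2.2.1 he'.2.2.2]
      exact he'.2.1
    refine Equiv.Perm.alternatingGroup_le_of_isPreprimitive_of_isThreeCycle_mem inferInstance
      (isThreeCycle_of_even (u := b) (v := c) (w := e) (hAlt D.2) (fun h => Db (Equiv.congr_fun h b))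
        fun x hxb hxc hxe => ?_) D.2
    show D • x = x
    rw [hD, mul_smul, mul_smul, mul_smul]
    by_cases hxa : x = a
    · rw [hxa, inv' wa, Ca, wd, Cd]
    by_cases hxd : x = d
    · rw [hxd, inv' wd, Cd, wa, Ca]
    have ne : ∀ {u v : Ω}, w • u = v → x ≠ v → w⁻¹ • x ≠ u := fun h1 h3 h4 =>
      h3 (by rw [← h1, ← h4, smul_inv_smul])
    rw [Cfix _ (ne wa hxa) (ne wb hxb) (ne wc hxe) (ne wd hxd), smul_inv_smul, Cfix x hxa hxb hxc hxd]

end Cfsg.Agent.Lie.TwinPrime
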