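import Cfsg.Agent.Lib.Lie.HalfNormalizer.Block

/-!
# Prime degree, half Sylow normaliser: all permutations are even
-/

set_option autoImplicit false
set_option linter.style.haveILetI false

namespace Cfsg.Agent.Lie.TwinPrime

open MulAction

/-- With half a Sylow normaliser a transitive group of prime degree consists of even permutations. -/
theorem le_alternating {Ω : Type*} [Fintype Ω] [DecidableEq Ω] {p : ℕ} [Fact p.Prime]
    (hΩ : Fintype.card Ω = p) (hp2 : p ≠ 2) (G : Subgroup (Equiv.Perm Ω)) [IsPretransitive G Ω]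
    (P : Sylow p G)
    (hN : 2 * Nat.card ↥(Subgroup.normalizer ((P : Subgroup G) : Set G)) = p * (p - 1)) :
    G ≤ alternatingGroup Ω := by
  classical
  have hp := (Fact.out : p.Prime)
  have hΩ' : Nat.card Ω = p := by rw [Nat.card_eq_fintype_card, hΩ]
  obtain ⟨C⟩ := Cfsg.Agent.Lie.HalfNormalizer.exists_coords hΩ' hp2 P hN
  choose af haf using fun (a : {a : ZMod p // IsSquare a ∧ a ≠ 0}) (t : ZMod p) => C.affine a.1 t a.2.1 a.2.2
  let sg : ↥G →* ℤˣ := (Equiv.Perm.sign).comp G.subtype
  let one' : {a : ZMod p // IsSquare a ∧ a ≠ 0} := ⟨1, IsSquare.one, one_ne_zero⟩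
  have hext : ∀ g h : ↥G, (∀ i, g • C.c i = h • C.c i) → g = h := fun g h e =>
    eq_of_smul_eq_smul fun x : Ω => by
      obtain ⟨i, rfl⟩ := C.c.surjective x
      exact e i
  have htr : ∀ (t : ZMod p) (n : ℕ), (af one' t) ^ n = af one' ((n : ZMod p) * t) := by
    intro t n
    refine hext _ _ fun i => ?_
    rw [haf]
    induction n with
    | zero => simp [one']
    | succ n ih =>
      rw [pow_succ', mul_smul, ih, haf]
      show C.c _ = C.c _
      congr 1
      push_cast; simp only [one']; ring
  have hodd : Odd p := hp.odd_of_ne_two hp2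
  -- affine maps with square multipliers are even
  have hsg : ∀ a t, sg (af a t) = 1 := by
    intro a t
    obtain ⟨w, hw⟩ := a.2.1
    have hw0 : w ≠ 0 := fun h => a.2.2 (by rw [hw, h, mul_zero])
    let m : Equiv.Perm Ω := C.c.symm.trans ((Equiv.mulLeft₀ w hw0).trans C.c)
    have he : ((af a t : ↥G) : Equiv.Perm Ω) = ((af one' t : ↥G) : Equiv.Perm Ω) * (m * m) := by
      refine Equiv.ext fun x => ?_
      obtain ⟨i, rfl⟩ := C.c.surjective x
      simp only [Equiv.Perm.coe_mul, Function.comp_apply, m, Equiv.trans_apply, Equiv.symm_apply_apply,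
        Equiv.mulLeft₀_apply]
      show af a t • C.c i = af one' t • C.c (w * (w * i))
      rw [haf, haf, hw]
      congr 1
      simp only [one']
      ring
    show Equiv.Perm.sign ((af a t : ↥G) : Equiv.Perm Ω) = 1
    rw [he, map_mul, map_mul, Int.units_mul_self, mul_one]
    have hpow : Equiv.Perm.sign ((af one' t : ↥G) : Equiv.Perm Ω) ^ p = 1 := by
      rw [← map_pow, ← SubmonoidClass.coe_pow, htr, ZMod.natCast_self, zero_mul]
      have h1 : af one' 0 = 1 := hext _ _ fun i => by rw [haf, one_smul]; simp [one']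
      rw [h1, Subgroup.coe_one, map_one]
    obtain ⟨k, hk⟩ := hodd
    rwa [hk, pow_succ, pow_mul, Int.units_sq, one_pow, one_mul] at hpow
  -- the translation generates a Sylow subgroup whose normaliser consists of affine maps
  set τ := af one' 1 with hτ
  have hτp : orderOf τ = p := orderOf_eq_prime (by
      refine hext _ _ fun i => ?_
      rw [hτ, htr, haf, one_smul]; simp [one']) (fun h => by
      have h' := haf one' 1 0
      rw [← hτ, h, one_smul] at h'
      have := C.c.injective h'
      simp [one'] at this)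
  obtain ⟨P', hP'⟩ := IsPGroup.exists_le_sylow (P := Subgroup.zpowers τ) (p := p)
    (IsPGroup.of_card (n := 1) (by rw [Nat.card_zpowers, hτp, pow_one]))
  have hP'eq : Subgroup.zpowers τ = (P' : Subgroup G) := Subgroup.eq_of_le_of_card_ge hP' (le_of_eq
    ((Cfsg.Agent.Lie.HalfNormalizer.sylow_card hΩ' P').trans ((Nat.card_zpowers τ).trans hτp).symm))
  set N := Subgroup.normalizer ((P' : Subgroup G) : Set G) with hNdef
  have hNc : 2 * Nat.card ↥N = p * (p - 1) := by
    have hidx : N.index = (Subgroup.normalizer ((P : Subgroup G) : Set G)).index :=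
      (Sylow.card_eq_index_normalizer P').symm.trans (Sylow.card_eq_index_normalizer P)
    have e1 := Subgroup.card_mul_index N
    have e2 := Subgroup.card_mul_index (Subgroup.normalizer ((P : Subgroup G) : Set G))
    rw [hidx] at e1
    rw [Nat.eq_of_mul_eq_mul_right (Nat.pos_of_ne_zero Subgroup.index_ne_zero_of_finite) (e1.trans e2.symm)]
    exact hN
  have hmemN : ∀ a t, af a t ∈ N := by
    intro a t
    rw [hNdef, ← hP'eq]
    refine Subgroup.mem_normalizer_fintype fun z hz => ?_
    obtain ⟨n, rfl⟩ := (mem_powers_iff_mem_zpowers (x := τ)).2 hz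
    show af a t * τ ^ n * (af a t)⁻¹ ∈ _
    have : af a t * τ ^ n * (af a t)⁻¹ = τ ^ ((n : ZMod p) * a.1).val := by
      rw [mul_inv_eq_iff_eq_mul, hτ, htr, htr]
      refine hext _ _ fun i => ?_
      rw [mul_smul, mul_smul, haf, haf, haf, haf]
      congr 1
      rw [ZMod.natCast_zmod_val]
      simp only [one']
      ring
    rw [this]
    exact Subgroup.pow_mem _ (Subgroup.mem_zpowers τ) _
  let f : {a : ZMod p // IsSquare a ∧ a ≠ 0} × ZMod p → {g : ↥N // sg g = 1} := fun x =>
    ⟨⟨af x.1 x.2, hmemN _ _⟩, hsg _ _⟩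
  have hf : Function.Injective f := by
    rintro ⟨a, t⟩ ⟨a', t'⟩ e
    have e' : af a t = af a' t' := congrArg (fun g => ((g.1 : ↥N) : ↥G)) e
    have h0 := haf a t 0
    have h1 := haf a t 1
    rw [e', haf] at h0 h1
    have h0' := C.c.injective h0
    have h1' := C.c.injective h1
    simp only [mul_zero, zero_add, mul_one] at h0' h1'
    subst h0'
    exact Prod.ext (Subtype.ext (add_right_cancel h1').symm) rfl
  have hsqcard : p - 1 ≤ 2 * Nat.card {a : ZMod p // IsSquare a ∧ a ≠ 0} := by
    rw [Nat.card_eq_fintype_card, Fintype.card_subtype]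
    have hsub : (Finset.univ.erase (0 : ZMod p)).image (fun x => x * x) ⊆
        Finset.univ.filter fun a : ZMod p => IsSquare a ∧ a ≠ 0 := by
      intro y hy
      obtain ⟨x, hx, rfl⟩ := Finset.mem_image.1 hy
      exact Finset.mem_filter.2 ⟨Finset.mem_univ _, ⟨x, rfl⟩,
        mul_ne_zero (Finset.ne_of_mem_erase hx) (Finset.ne_of_mem_erase hx)⟩
    refine le_trans ?_ (Nat.mul_le_mul_left 2 (Finset.card_le_card hsub))
    have h := Finset.card_le_mul_card_image (f := fun x : ZMod p => x * x)
      (Finset.univ.erase (0 : ZMod p)) 2 (fun y hy => by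
        obtain ⟨x, -, rfl⟩ := Finset.mem_image.1 hy
        refine (Finset.card_le_card (t := ({x, -x} : Finset (ZMod p))) fun z hz => ?_).trans Finset.card_le_two
        rw [Finset.mem_filter] at hz
        rcases mul_self_eq_mul_self_iff.1 hz.2 with h | h <;> simp [h])
    rwa [Finset.card_erase_of_mem (Finset.mem_univ _), Finset.card_univ, ZMod.card] at h
  have hNeven : ∀ g ∈ N, sg g = 1 := by
    have hle := Nat.card_le_card_of_injective f hf
    rw [Nat.card_prod, Nat.card_zmod] at hle
    have hall : Nat.card {g : ↥N // sg g = 1} = Nat.card ↥N := by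
      refine le_antisymm (Nat.card_le_card_of_injective _ Subtype.val_injective) ?_
      nlinarith
    have hbij := (Nat.bijective_iff_injective_and_card (Subtype.val : {g : ↥N // sg g = 1} → ↥N)).2
      ⟨Subtype.val_injective, hall⟩
    intro g hg
    obtain ⟨⟨g', hg'⟩, e⟩ := hbij.2 ⟨g, hg⟩
    rw [show g = (g' : ↥G) from congrArg Subtype.val e.symm]
    exact hg'
  -- Frattini argument
  intro x hx
  have hPker : (P' : Subgroup G) ≤ sg.ker := by
    rw [← hP'eq, Subgroup.zpowers_le]
    exact MonoidHom.mem_ker.2 (hsg _ _)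
  have htop := Sylow.normalizer_sup_eq_top (N := sg.ker) (P'.subtype hPker)
  have hmap : ((P'.subtype hPker : Sylow p sg.ker) : Subgroup sg.ker).map sg.ker.subtype = (P' : Subgroup G) := by
    rw [Sylow.coe_subtype, Subgroup.subgroupOf_map_subtype]
    exact inf_eq_left.2 hPker
  rw [hmap] at htop
  have hle : (⊤ : Subgroup G) ≤ sg.ker := by
    rw [← htop]
    exact sup_le (fun g hg => MonoidHom.mem_ker.2 (hNeven g hg)) le_rfl
  exact Equiv.Perm.mem_alternatingGroup.2 (MonoidHom.mem_ker.1 (hle (Subgroup.mem_top (⟨x, hx⟩ : ↥G))))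

end Cfsg.Agent.Lie.TwinPrime
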