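import Cfsg.Agent.Lib.Lie.TwinPrime.AltMain

/-!
# Prime degree with half normaliser and twin prime: the results for abstract actions
-/

set_option autoImplicit false
set_option linter.style.haveILetI false

namespace Cfsg.Agent.Lie.TwinPrime

open MulAction

variable {G Ω : Type*} [Group G] [MulAction G Ω]

/-- The permutation group of the action satisfies the same hypotheses. -/
theorem range_data [Finite G] [FaithfulSMul G Ω] {p : ℕ} [Fact p.Prime] [IsPretransitive G Ω]
    (hins : ¬ Group.IsSolvable G) (P : Sylow p G) :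
    IsPretransitive (MulAction.toPermHom G Ω).range Ω ∧ ¬ Group.IsSolvable (MulAction.toPermHom G Ω).range ∧
      ∃ P' : Sylow p (MulAction.toPermHom G Ω).range,
        Nat.card ↥(Subgroup.normalizer ((P' : Subgroup (MulAction.toPermHom G Ω).range) :
            Set (MulAction.toPermHom G Ω).range)) =
          Nat.card ↥(Subgroup.normalizer ((P : Subgroup G) : Set G)) := by
  refine ⟨⟨fun x y => ?_⟩, Cfsg.Agent.Lie.HalfNormalizer.range_not_solvable hins, ?_⟩
  · obtain ⟨g, hg⟩ := MulAction.exists_smul_eq G x y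
    exact ⟨⟨_, g, rfl⟩, hg⟩
  · have hψ : Function.Bijective (MulAction.toPermHom G Ω).rangeRestrict :=
      ⟨fun x y e => MulAction.toPerm_injective (congrArg Subtype.val e), MonoidHom.rangeRestrict_surjective _⟩
    refine ⟨P.mapSurjective hψ.2, ?_⟩
    rw [show ((P.mapSurjective hψ.2 : Sylow p _) : Subgroup (MulAction.toPermHom G Ω).range) =
        (P : Subgroup G).map (MulAction.toPermHom G Ω).rangeRestrict from rfl,
      ← Subgroup.map_normalizer_eq_of_bijective (P : Subgroup G) (f := (MulAction.toPermHom G Ω).rangeRestrict) hψ,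
      Nat.card_congr ((Subgroup.normalizer ((P : Subgroup G) : Set G)).equivMapOfInjective
        (MulAction.toPermHom G Ω).rangeRestrict hψ.1).toEquiv.symm]

variable [Finite G] [FaithfulSMul G Ω] [Finite Ω]

theorem five_transitive_of_action {p q : ℕ} (hp : p.Prime) (hΩ : Nat.card Ω = p) [IsPretransitive G Ω]
    (hins : ¬ Group.IsSolvable G) (P : Sylow p G)
    (hN : 2 * Nat.card ↥(Subgroup.normalizer ((P : Subgroup G) : Set G)) = p * (p - 1))
    (hq : q.Prime) (hq5 : 5 < q) (hpq : p = q + 2) : IsMultiplyPretransitive G Ω 5 := by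
  classical
  haveI := Fact.mk hp
  haveI := Fact.mk hq
  haveI : Fintype Ω := Fintype.ofFinite Ω
  obtain ⟨htr, hins', P', hP'⟩ := range_data (Ω := Ω) hins P
  haveI := htr
  have h5 := five_transitive (MulAction.toPermHom G Ω).range (by rw [← Nat.card_eq_fintype_card, hΩ]) hpq hq5
    hins' P' (by rw [hP']; exact hN)
  refine ⟨fun x y => ?_⟩
  obtain ⟨⟨_, g, rfl⟩, hg⟩ := h5.exists_smul_eq x y
  exact ⟨g, hg⟩

theorem alternating_of_action {p q r : ℕ} (hp : p.Prime) (hΩ : Nat.card Ω = p) [IsPretransitive G Ω]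
    (hins : ¬ Group.IsSolvable G) (P : Sylow p G)
    (hN : 2 * Nat.card ↥(Subgroup.normalizer ((P : Subgroup G) : Set G)) = p * (p - 1))
    (hq : q.Prime) (hr : r.Prime) (hpq : p = q + 2) {k : ℕ} (hk : k = 2 ∨ k = 3) (hr5 : 5 ≤ r)
    (hpk : p = k * r + (k + 1)) : Nonempty (G ≃* alternatingGroup (Fin p)) := by
  classical
  haveI := Fact.mk hp
  haveI := Fact.mk hq
  haveI := Fact.mk hr
  haveI : Fintype Ω := Fintype.ofFinite Ω
  have hΩ' : Fintype.card Ω = p := by rw [← Nat.card_eq_fintype_card, hΩ]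
  obtain ⟨htr, hins', P', hP'⟩ := range_data (Ω := Ω) hins P
  haveI := htr
  have hN' := hP'.symm ▸ hN
  have hq5 : 5 < q := by rcases hk with rfl | rfl <;> omega
  have hAlt := le_alternating hΩ' (by omega) (MulAction.toPermHom G Ω).range P' hN'
  have h5 := five_transitive (MulAction.toPermHom G Ω).range hΩ' hpq hq5 hins' P' hN'
  have heq : (MulAction.toPermHom G Ω).range = alternatingGroup Ω :=
    le_antisymm hAlt (alternating_le _ hAlt h5 hr5 hk (by rw [hΩ', hpk]))
  exact ⟨(MonoidHom.ofInjective (f := MulAction.toPermHom G Ω) MulAction.toPerm_injective).trans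
    ((MulEquiv.subgroupCongr heq).trans
      (Equiv.altCongrHom (Fintype.equivFinOfCardEq hΩ')))⟩

end Cfsg.Agent.Lie.TwinPrime
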