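import Cfsg.Agent.Lib.Lie.HalfNormalizer.Block

/-!
# Prime degree `q + 2` with half normaliser: triple transitivity

Otherwise the point stabiliser would be primitive of rank three on `q + 1` points; counting paths
of length two shows that this is impossible for prime `q`.
-/

set_option autoImplicit false
set_option linter.style.haveILetI false

namespace Cfsg.Agent.Lie.TwinPrime

open MulAction Cfsg.Agent.Lie.HalfNormalizer

/-- The arcs of the orbital graph of `(b, x)` under the stabiliser of `a`. -/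
def Arc (G : Type*) {Ω : Type*} [Group G] [MulAction G Ω] (a b x z w : Ω) : Prop :=
  ∃ g : G, g • a = a ∧ g • b = z ∧ g • x = w

variable {G Ω : Type*} [Group G] [MulAction G Ω]

theorem Arc.smul {a b x z w : Ω} {g : G} (hg : g • a = a) (h : Arc G a b x z w) :
    Arc G a b x (g • z) (g • w) := by
  obtain ⟨k, h1, h2, h3⟩ := h
  exact ⟨g * k, by rw [mul_smul, h1, hg], by rw [mul_smul, h2], by rw [mul_smul, h3]⟩

theorem Arc.smul_iff {a b x z w : Ω} {g : G} (hg : g • a = a) :
    Arc G a b x (g • z) (g • w) ↔ Arc G a b x z w :=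
  ⟨fun h => by simpa using h.smul (inv_smul_eq_iff.2 hg.symm : g⁻¹ • a = a), fun h => h.smul hg⟩

/-- One half of the dichotomy: the out-neighbourhoods of non-adjacent points are disjoint. -/
theorem disjoint_of_nonarc [FaithfulSMul G Ω] [Fintype Ω] [Finite G] {p q : ℕ} [Fact p.Prime]
    (hΩ : Fintype.card Ω = p) [IsPretransitive G Ω] (hins : ¬ Group.IsSolvable G) (hp7 : 7 < p)
    (C : Coords G Ω p) (hq : q.Prime) (hpq : p = q + 2) {a b x y : Ω} (hba : b ≠ a) (hxa : x ≠ a)
    (hxb : x ≠ b) (hya : y ≠ a) (hyb : y ≠ b)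
    (hsep : ∀ g : G, g • a = a → g • b = b → g • x ≠ y) :
    ∀ w, Arc G a b x b w → ¬ Arc G a b x y w := by
  classical
  have hp2 : p ≠ 2 := by omega
  have h2 := two_transitive (G := G) (Ω := Ω) (p := p) (by rw [Nat.card_eq_fintype_card, hΩ]) hins
  have h2' : ∀ {x y z w : Ω}, x ≠ y → z ≠ w → ∃ g : G, g • x = z ∧ g • y = w :=
    fun {x y z w} h1 h3 => is_two_pretransitive_iff.1 h2 h1 h3
  have to_b : ∀ z, z ≠ a → ∃ g : G, g • a = a ∧ g • b = z := fun z hz => h2' hba.symm hz.symm
  have Ene : ∀ {z w}, Arc G a b x z w → z ≠ a ∧ w ≠ a ∧ w ≠ z := by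
    rintro z w ⟨g, ga, rfl, rfl⟩
    exact ⟨fun e => hba (smul_left_cancel g (e.trans ga.symm)),
      fun e => hxa (smul_left_cancel g (e.trans ga.symm)), fun e => hxb (smul_left_cancel g e)⟩
  have Rout : ∀ z, z ≠ a → z ≠ b → ¬ Arc G a b x b z →
      ∃ g : G, g • a = a ∧ g • b = b ∧ g • y = z := by
    intro z hza hzb hz
    obtain ⟨g, ga, gb, h | h | h⟩ := exists_fixing_of_three hΩ h2 hins hp2 C hba.symm
      (x := x) (y := y) (z := z) ⟨hxa, hxb⟩ ⟨hya, hyb⟩ ⟨hza, hzb⟩
    · exact absurd h (hsep g ga gb)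
    · exact absurd ⟨g, ga, gb, h⟩ hz
    · exact ⟨g, ga, gb, h⟩
  let nb : Ω → Finset Ω := fun z => Finset.univ.filter fun w => Arc G a b x z w
  have hnb : ∀ z w, w ∈ nb z ↔ Arc G a b x z w := fun z w => by simp [nb]
  let com : Ω → Ω → ℕ := fun z w => (nb z ∩ nb w).card
  have hcom : ∀ g : G, g • a = a → ∀ z w, com (g • z) (g • w) = com z w := by
    intro g hg z w
    symm
    refine Finset.card_bij (fun u _ => g • u) (fun u hu => ?_) (fun u _ v _ h => smul_left_cancel g h)
      (fun u hu => ⟨g⁻¹ • u, ?_, smul_inv_smul g u⟩)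
    · simp only [Finset.mem_inter, hnb] at hu ⊢
      exact ⟨hu.1.smul hg, hu.2.smul hg⟩
    · simp only [Finset.mem_inter, hnb] at hu ⊢
      rw [← Arc.smul_iff hg (z := z), ← Arc.smul_iff hg (z := w), smul_inv_smul]
      exact hu
  set k := (nb b).card with hk
  set lam := com b x with hlam
  set mu := com b y with hmu
  have hdeg : ∀ z, z ≠ a → (nb z).card = k := by
    intro z hz
    obtain ⟨g, ga, gb⟩ := to_b z hz
    have := hcom g ga b b
    simp only [com, Finset.inter_self, gb] at this
    exact this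
  -- in-degrees
  let inn : Ω → Finset Ω := fun w => Finset.univ.filter fun z => Arc G a b x z w
  have hinn : ∀ w, w ≠ a → (inn w).card = (inn b).card := by
    intro w hw
    obtain ⟨g, ga, gb⟩ := to_b w hw
    rw [← gb]
    refine (Finset.card_bij (fun u _ => g • u) (fun u hu => ?_) (fun u _ v _ h => smul_left_cancel g h)
      (fun u hu => ⟨g⁻¹ • u, ?_, smul_inv_smul g u⟩)).symm
    · simp only [inn, Finset.mem_filter, Finset.mem_univ, true_and] at hu ⊢
      exact hu.smul ga
    · simp only [inn, Finset.mem_filter, Finset.mem_univ, true_and] at hu ⊢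
      rw [← Arc.smul_iff ga, smul_inv_smul]
      exact hu
  have hU : ((Finset.univ : Finset Ω).erase a).card = q + 1 := by
    rw [Finset.card_erase_of_mem (Finset.mem_univ _), Finset.card_univ, hΩ]; omega
  have hin : (inn b).card = k := by
    have h := Finset.sum_card_bipartiteAbove_eq_sum_card_bipartiteBelow
      (s := (Finset.univ : Finset Ω).erase a) (t := (Finset.univ : Finset Ω).erase a)
      (fun z w => Arc G a b x z w)
    have e1 : ∀ z ∈ (Finset.univ : Finset Ω).erase a,
        (Finset.bipartiteAbove (fun z w => Arc G a b x z w) ((Finset.univ : Finset Ω).erase a) z).card = k := by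
      intro z hz
      rw [← hdeg z (Finset.ne_of_mem_erase hz)]
      congr 1
      ext w
      simp only [Finset.mem_bipartiteAbove, Finset.mem_erase, Finset.mem_univ, and_true, hnb]
      exact ⟨fun h => h.2, fun h => ⟨(Ene h).2.1, h⟩⟩
    have e2 : ∀ w ∈ (Finset.univ : Finset Ω).erase a,
        (Finset.bipartiteBelow (fun z w => Arc G a b x z w) ((Finset.univ : Finset Ω).erase a) w).card =
          (inn b).card := by
      intro w hw
      rw [← hinn w (Finset.ne_of_mem_erase hw)]
      congr 1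
      ext z
      simp only [inn, Finset.mem_bipartiteBelow, Finset.mem_erase, Finset.mem_univ, and_true,
        Finset.mem_filter, true_and]
      exact ⟨fun h => h.2, fun h => ⟨(Ene h).1, h⟩⟩
    rw [Finset.sum_congr rfl e1, Finset.sum_congr rfl e2, Finset.sum_const, Finset.sum_const, hU,
      smul_eq_mul, smul_eq_mul] at h
    exact (Nat.eq_of_mul_eq_mul_left (by omega) h).symm
  -- paths of length two from b
  set R := ((Finset.univ : Finset Ω).erase a).erase b with hR
  have hRmem : ∀ w, w ∈ R ↔ w ≠ a ∧ w ≠ b := fun w => by simp [hR, and_comm]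
  have hRcard : R.card = q := by
    rw [hR, Finset.card_erase_of_mem (by simp [hba]), hU]; omega
  have hsub : nb b ⊆ R := fun w hw => (hRmem w).2 ⟨(Ene ((hnb _ _).1 hw)).2.1, (Ene ((hnb _ _).1 hw)).2.2⟩
  have hcount : k * lam + (q - k) * mu = k * (k - 1) := by
    have h := Finset.sum_card_bipartiteAbove_eq_sum_card_bipartiteBelow
      (s := R) (t := nb b) (fun z u => Arc G a b x z u)
    have e1 : ∀ w ∈ R, (Finset.bipartiteAbove (fun z u => Arc G a b x z u) (nb b) w).card = com b w := by
      intro w _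
      congr 1
      ext u
      simp [Finset.mem_bipartiteAbove, hnb]
    have e2 : ∀ u ∈ nb b, (Finset.bipartiteBelow (fun z u => Arc G a b x z u) R u).card = k - 1 := by
      intro u hu
      have hub : b ∈ inn u := by simp only [inn, Finset.mem_filter, Finset.mem_univ, true_and]; exact (hnb _ _).1 hu
      rw [show k - 1 = ((inn u).erase b).card by
        rw [Finset.card_erase_of_mem hub, hinn u (Ene ((hnb _ _).1 hu)).2.1, hin]]
      congr 1
      ext z
      simp only [inn, Finset.mem_bipartiteBelow, hRmem, Finset.mem_erase, Finset.mem_filter,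
        Finset.mem_univ, true_and]
      exact ⟨fun h => ⟨h.1.2, h.2⟩, fun h => ⟨⟨(Ene h.2).1, h.1⟩, h.2⟩⟩
    rw [Finset.sum_congr rfl e1, Finset.sum_congr rfl e2, Finset.sum_const, smul_eq_mul,
      ← Finset.sum_sdiff hsub] at h
    have el : ∀ w ∈ nb b, com b w = lam := by
      intro w hw
      obtain ⟨g, ga, gb, gx⟩ := (hnb _ _).1 hw
      have := hcom g ga b x
      rwa [gb, gx] at this
    have em : ∀ w ∈ R \ nb b, com b w = mu := by
      intro w hw
      rw [Finset.mem_sdiff, hRmem, hnb] at hw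
      obtain ⟨g, ga, gb, gy⟩ := Rout w hw.1.1 hw.1.2 hw.2
      have := hcom g ga b y
      rwa [gb, gy] at this
    rw [Finset.sum_congr rfl el, Finset.sum_congr rfl em, Finset.sum_const, Finset.sum_const,
      Finset.card_sdiff_of_subset hsub, hRcard, smul_eq_mul, smul_eq_mul] at h
    linarith
  have hbx : Arc G a b x b x := ⟨1, one_smul _ _, one_smul _ _, one_smul _ _⟩
  have hk1 : 1 ≤ k := Finset.card_pos.2 ⟨x, (hnb _ _).2 hbx⟩
  have hkq : k < q := by
    rw [← hRcard]
    refine Finset.card_lt_card (Finset.ssubset_iff_subset_ne.2 ⟨hsub, fun e => ?_⟩)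
    have hy : y ∈ nb b := e ▸ (hRmem y).2 ⟨hya, hyb⟩
    obtain ⟨g, ga, gb, gx⟩ := (hnb _ _).1 hy
    exact hsep g ga gb gx
  have hmuk : mu ≤ k := Finset.card_le_card Finset.inter_subset_left
  -- the case of equal neighbourhoods gives a block
  have hne : mu ≠ k := by
    intro hmk
    have hsame : nb b = nb y := by
      have h1 : nb b ∩ nb y = nb b := Finset.eq_of_subset_of_card_le Finset.inter_subset_left (le_of_eq hmk.symm)
      exact Finset.eq_of_subset_of_card_le (Finset.inter_eq_left.1 h1) (le_of_eq (hdeg y hya))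
    refine no_block hΩ hins hp7 C (a := a) (b := b) (b' := y) hba.symm hyb.symm
      { B := {z | z ≠ a ∧ nb z = nb b}
        hb := ⟨hba, rfl⟩
        hb' := ⟨hya, hsame.symm⟩
        ha := fun h => h.1 rfl
        x := x
        hxa := hxa
        hxB := fun h => ?_
        block := ?_ }
    · have hx : x ∈ nb b := (hnb _ _).2 hbx
      rw [← h.2, hnb] at hx
      exact (Ene hx).2.2 rfl
    · rintro g ga z ⟨-, hz⟩ ⟨-, hgz⟩ w ⟨hwa, hw⟩
      refine ⟨fun e => hwa (smul_left_cancel g (e.trans ga.symm)), ?_⟩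
      rw [← hgz]
      ext u
      rw [hnb, hnb, ← smul_inv_smul g u, Arc.smul_iff ga, Arc.smul_iff ga, ← hnb, ← hnb, hw, hz]
  have hmu0 : mu = 0 := by
    have hz : ((k : ℤ) * lam + ((q : ℤ) - k) * mu) = k * ((k : ℤ) - 1) := by
      have := congrArg (fun n : ℕ => (n : ℤ)) hcount
      push_cast [Nat.cast_sub hkq.le, Nat.cast_sub hk1] at this
      exact this
    have hkey : (k : ℤ) * ((k : ℤ) - 1 - lam + mu) = q * mu := by linear_combination -hz
    have hdvd : (q : ℤ) ∣ (k : ℤ) - 1 - lam + mu := by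
      refine ((Nat.prime_iff_prime_int.1 hq).dvd_or_dvd ⟨mu, hkey⟩).resolve_left fun h => ?_
      have := Nat.le_of_dvd hk1 (Int.natCast_dvd_natCast.1 h)
      omega
    obtain ⟨j, hj⟩ := hdvd
    rw [hj] at hkey
    have hm : (mu : ℤ) = k * j := by
      refine mul_left_cancel₀ (show (q : ℤ) ≠ 0 by exact_mod_cast hq.ne_zero) ?_
      linear_combination -hkey
    have hj0 : j = 0 := by
      have h0 : (0 : ℤ) ≤ mu := Int.natCast_nonneg _
      have h1 : (mu : ℤ) < k := by
        have : mu < k := lt_of_le_of_ne hmuk hne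
        exact_mod_cast this
      have hkpos : (1 : ℤ) ≤ k := by exact_mod_cast hk1
      rcases lt_trichotomy j 0 with h | h | h
      · nlinarith
      · exact h
      · nlinarith
    rw [hj0, mul_zero] at hm
    exact_mod_cast hm
  intro w hw hw'
  have : w ∈ nb b ∩ nb y := Finset.mem_inter.2 ⟨(hnb _ _).2 hw, (hnb _ _).2 hw'⟩
  rw [hmu, Finset.card_eq_zero] at hmu0
  rw [hmu0] at this
  exact Finset.notMem_empty _ this

/-- Prime degree `q + 2`, half normaliser: triply transitive. -/
theorem three_transitive [FaithfulSMul G Ω] [Fintype Ω] [Finite G] {p q : ℕ} [Fact p.Prime]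
    (hΩ : Fintype.card Ω = p) [IsPretransitive G Ω] (hins : ¬ Group.IsSolvable G) (hp7 : 7 < p)
    (C : Coords G Ω p) (hq : q.Prime) (hpq : p = q + 2) : IsMultiplyPretransitive G Ω 3 := by
  classical
  have hp2 : p ≠ 2 := by omega
  have h2 := two_transitive (G := G) (Ω := Ω) (p := p) (by rw [Nat.card_eq_fintype_card, hΩ]) hins
  obtain ⟨a, b, hab⟩ := Fintype.exists_pair_of_one_lt_card (α := Ω) (by omega)
  refine three_transitive_of h2 hab fun x y hxa hxb hya hyb => ?_
  by_contra hno
  have hsep : ∀ g : G, g • a = a → g • b = b → g • x ≠ y := fun g ga gb gx => hno ⟨g, ga, gb, gx⟩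
  have hsep' : ∀ g : G, g • a = a → g • b = b → g • y ≠ x := fun g ga gb gy =>
    hsep g⁻¹ (inv_smul_eq_iff.2 ga.symm) (inv_smul_eq_iff.2 gb.symm) (inv_smul_eq_iff.2 gy.symm)
  have D1 := disjoint_of_nonarc hΩ hins hp7 C hq hpq hab.symm hxa hxb hya hyb hsep
  have D2 := disjoint_of_nonarc hΩ hins hp7 C hq hpq hab.symm hya hyb hxa hxb hsep'
  have h2' : ∀ {x y z w : Ω}, x ≠ y → z ≠ w → ∃ g : G, g • x = z ∧ g • y = w :=
    fun {x y z w} h1 h3 => is_two_pretransitive_iff.1 h2 h1 h3
  -- every pair is an arc of exactly one of the two graphs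
  have hcover : ∀ z, z ≠ a → ∀ w, w ≠ a → w ≠ z → Arc G a b x z w ∨ Arc G a b y z w := by
    intro z hz w hwa hwz
    obtain ⟨g, ga, gb⟩ := h2' hab hz.symm
    obtain ⟨w, rfl⟩ : ∃ w', g • w' = w := ⟨g⁻¹ • w, smul_inv_smul g w⟩
    have hwa' : w ≠ a := fun e => hwa (by rw [e, ga])
    have hwb' : w ≠ b := fun e => hwz (by rw [e, gb])
    obtain ⟨k, ka, kb, h | h | h⟩ := exists_fixing_of_three hΩ h2 hins hp2 C hab
      (x := x) (y := y) (z := w) ⟨hxa, hxb⟩ ⟨hya, hyb⟩ ⟨hwa', hwb'⟩
    · exact absurd h (hsep k ka kb)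
    · exact Or.inl ⟨g * k, by rw [mul_smul, ka, ga], by rw [mul_smul, kb, gb], by rw [mul_smul, h]⟩
    · exact Or.inr ⟨g * k, by rw [mul_smul, ka, ga], by rw [mul_smul, kb, gb], by rw [mul_smul, h]⟩
  let N : Ω → Ω → Finset Ω := fun u z => Finset.univ.filter fun w => Arc G a b u z w
  have hdeg : ∀ u, u ≠ a → u ≠ b → ∀ z, z ≠ a → (N u z).card = (N u b).card := by
    intro u _ _ z hz
    obtain ⟨g, ga, gb⟩ := h2' hab hz.symm
    rw [← gb]
    refine (Finset.card_bij (fun w _ => g • w) (fun w hw => ?_) (fun u _ v _ h => smul_left_cancel g h)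
      (fun w hw => ⟨g⁻¹ • w, ?_, smul_inv_smul g w⟩)).symm
    · simp only [N, Finset.mem_filter, Finset.mem_univ, true_and] at hw ⊢
      exact hw.smul ga
    · simp only [N, Finset.mem_filter, Finset.mem_univ, true_and] at hw ⊢
      rw [← Arc.smul_iff ga, smul_inv_smul]
      exact hw
  have hne : ∀ {u z w}, u ≠ a → u ≠ b → Arc G a b u z w → w ≠ a ∧ w ≠ z := by
    rintro u z w hua hub ⟨g, ga, rfl, rfl⟩
    exact ⟨fun e => hua (smul_left_cancel g (e.trans ga.symm)), fun e => hub (smul_left_cancel g e)⟩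
  have key : ∀ u v, u ≠ a → u ≠ b → v ≠ a → v ≠ b →
      (∀ g : G, g • a = a → g • b = b → g • u ≠ v) →
      (∀ w, Arc G a b u b w → ¬ Arc G a b u v w) →
      (∀ z, z ≠ a → ∀ w, w ≠ a → w ≠ z → Arc G a b u z w ∨ Arc G a b v z w) →
      (N u b).card ≤ (N v b).card := by
    intro u v hua hub hva hvb hsep hD hcov
    have hsub : N u v ⊆ insert b ((N v b).erase v) := by
      intro w hw
      simp only [N, Finset.mem_filter, Finset.mem_univ, true_and] at hw
      rw [Finset.mem_insert]
      by_cases hwb : w = b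
      · exact Or.inl hwb
      refine Or.inr (Finset.mem_erase.2 ⟨(hne hua hub hw).2, ?_⟩)
      simp only [N, Finset.mem_filter, Finset.mem_univ, true_and]
      exact (hcov b hab.symm w (hne hua hub hw).1 hwb).resolve_left fun h => hD w h hw
    have hv : v ∈ N v b := by
      simp only [N, Finset.mem_filter, Finset.mem_univ, true_and]
      exact ⟨1, one_smul _ _, one_smul _ _, one_smul _ _⟩
    rw [← hdeg u hua hub v hva]
    refine (Finset.card_le_card hsub).trans ((Finset.card_insert_le _ _).trans ?_)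
    rw [Finset.card_erase_of_mem hv]
    have := Finset.card_pos.2 ⟨v, hv⟩
    omega
  have h1 := key x y hxa hxb hya hyb hsep D1 hcover
  have h3 := key y x hya hyb hxa hxb hsep' D2 (fun z hz w hw hwz => (hcover z hz w hw hwz).symm)
  have hsum : (N x b).card + (N y b).card = q := by
    rw [← Finset.card_union_of_disjoint]
    · have : N x b ∪ N y b = ((Finset.univ : Finset Ω).erase a).erase b := by
        ext w
        simp only [N, Finset.mem_union, Finset.mem_filter, Finset.mem_univ, true_and, Finset.mem_erase,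
          and_true]
        constructor
        · rintro (h | h)
          · exact ⟨(hne hxa hxb h).2, (hne hxa hxb h).1⟩
          · exact ⟨(hne hya hyb h).2, (hne hya hyb h).1⟩
        · rintro ⟨h1, h2⟩; exact hcover b hab.symm w h2 h1
      rw [this, Finset.card_erase_of_mem (by simp [hab.symm]), Finset.card_erase_of_mem (Finset.mem_univ _),
        Finset.card_univ, hΩ]
      omega
    · rw [Finset.disjoint_left]
      intro w hw hw'
      simp only [N, Finset.mem_filter, Finset.mem_univ, true_and] at hw hw'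
      obtain ⟨g, ga, gb, gx⟩ := hw
      obtain ⟨k, ka, kb, ky⟩ := hw'
      exact hsep (k⁻¹ * g) (by rw [mul_smul, ga, inv_smul_eq_iff, ka])
        (by rw [mul_smul, gb, inv_smul_eq_iff, kb]) (by rw [mul_smul, gx, ← ky, inv_smul_smul])
  have := hq.eq_two_or_odd
  omega

end Cfsg.Agent.Lie.TwinPrime
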