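import Cfsg.Agent.Lib.Lie.TwinPrime.Even
import Cfsg.Agent.Lib.Lie.TwinPrime.RankThree
import Cfsg.Agent.Lib.Lie.PrimeLineOver.Point
import Cfsg.Agent.Lib.Perm.Basic
import Cfsg.Agent.S0676

/-!
# Prime degree `q + 2` with half normaliser: five-fold transitivity

The stabiliser of a pair of points is insoluble on the remaining `q` points; with the transposition of
the pair it has an even Sylow normaliser, so it is triply transitive there.
-/

set_option autoImplicit false
set_option linter.style.haveILetI false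

namespace Cfsg.Agent.Lie.TwinPrime

open MulAction

variable {G Ω : Type*} [Group G] [MulAction G Ω]

/-- The action of a subgroup on an invariant set of points. -/
def restrictHom (M : Subgroup G) (P : Ω → Prop) (hM : ∀ g ∈ M, ∀ x, P (g • x) ↔ P x) :
    ↥M →* Equiv.Perm {x // P x} where
  toFun g := (MulAction.toPerm (g : G) : Equiv.Perm Ω).subtypePerm fun x => hM g g.2 x
  map_one' := Equiv.ext fun x => Subtype.ext (one_smul G (x : Ω))
  map_mul' g h := Equiv.ext fun x => Subtype.ext (mul_smul (g : G) (h : G) (x : Ω))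

theorem restrictHom_apply (M : Subgroup G) (P : Ω → Prop) (hM : ∀ g ∈ M, ∀ x, P (g • x) ↔ P x)
    (g : ↥M) (x : {x // P x}) : ((restrictHom M P hM g x : {x // P x}) : Ω) = (g : G) • (x : Ω) :=
  rfl

/-- The elements fixing or exchanging two points. -/
def pairStab (G : Type*) {Ω : Type*} [Group G] [MulAction G Ω] (a b : Ω) : Subgroup G where
  carrier := {g | g • a = a ∧ g • b = b ∨ g • a = b ∧ g • b = a}
  one_mem' := Or.inl ⟨one_smul _ _, one_smul _ _⟩
  mul_mem' := by
    rintro g h (⟨g1, g2⟩ | ⟨g1, g2⟩) (⟨h1, h2⟩ | ⟨h1, h2⟩) <;>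
      simp [mul_smul, g1, g2, h1, h2]
  inv_mem' := by
    rintro g (⟨g1, g2⟩ | ⟨g1, g2⟩)
    · exact Or.inl ⟨inv_smul_eq_iff.2 g1.symm, inv_smul_eq_iff.2 g2.symm⟩
    · exact Or.inr ⟨inv_smul_eq_iff.2 g2.symm, inv_smul_eq_iff.2 g1.symm⟩

/-- An element exchanging two points has even order. -/
theorem even_orderOf_of_swap {g : G} {a b : Ω} (hab : a ≠ b) (ha : g • a = b) (hb : g • b = a) :
    Even (orderOf g) := by
  have h2 : ∀ k : ℕ, g ^ (2 * k) • a = a := by
    intro k
    induction k with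
    | zero => simp
    | succ k ih => rw [show 2 * (k + 1) = 2 + 2 * k by ring, pow_add, mul_smul, ih, pow_two, mul_smul, ha, hb]
  rcases Nat.even_or_odd (orderOf g) with h | ⟨k, hk⟩
  · exact h
  · exfalso
    have h := pow_orderOf_eq_one g
    rw [hk] at h
    have h' : g ^ (2 * k + 1) • a = a := by rw [h, one_smul]
    rw [pow_succ', mul_smul, h2, ha] at h'
    exact hab h'.symm

/-- If the stabiliser of `{a, b}`, `c`, `d` is transitive on an odd number of other points, so is its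
subgroup fixing `a` and `b`. -/
theorem transitive_of_half {Ω : Type*} [MulAction G Ω] [Fintype Ω] [DecidableEq Ω] {p : ℕ}
    (hΩ : Fintype.card Ω = p) (hodd : Odd p) {a b c d x y : Ω} (hab : a ≠ b) (hcd : c ≠ d)
    (hca : c ≠ a) (hcb : c ≠ b) (hda : d ≠ a) (hdb : d ≠ b)
    (hx0 : x ≠ a ∧ x ≠ b ∧ x ≠ c ∧ x ≠ d) (hy0 : y ≠ a ∧ y ≠ b ∧ y ≠ c ∧ y ≠ d)
    (toM : ∀ z, z ≠ a ∧ z ≠ b ∧ z ≠ c ∧ z ≠ d →
      ∃ g : G, g ∈ pairStab G a b ∧ g • c = c ∧ g • d = d ∧ g • x = z) :
    ∃ g : G, g • a = a ∧ g • b = b ∧ g • c = c ∧ g • d = d ∧ g • x = y := by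
  by_contra hno
  obtain ⟨hxa, hxb, hxc, hxd⟩ := hx0
  obtain ⟨hya, hyb, hyc, hyd⟩ := hy0
  obtain ⟨h, hhM, hc, hd, hx⟩ := toM y ⟨hya, hyb, hyc, hyd⟩
  have hsw : h • a = b ∧ h • b = a := hhM.resolve_left fun e => hno ⟨h, e.1, e.2, hc, hd, hx⟩
  classical
  let O : Ω → Finset Ω := fun u => Finset.univ.filter fun z =>
    ∃ g : G, g • a = a ∧ g • b = b ∧ g • c = c ∧ g • d = d ∧ g • u = z
  have hO : ∀ u z, z ∈ O u ↔ ∃ g : G, g • a = a ∧ g • b = b ∧ g • c = c ∧ g • d = d ∧ g • u = z :=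
    fun u z => by simp [O]
  have hinv : ∀ {g : G} {u v : Ω}, g • u = v → g⁻¹ • v = u := fun e => inv_smul_eq_iff.2 e.symm
  have hcard : (O y).card = (O x).card := by
    symm
    refine Finset.card_bij (fun z _ => h • z) (fun z hz => ?_) (fun u _ v _ e => smul_left_cancel h e)
      (fun z hz => ⟨h⁻¹ • z, ?_, smul_inv_smul h z⟩)
    · obtain ⟨g, ga, gb, gc, gd, gx⟩ := (hO _ _).1 hz
      refine (hO _ _).2 ⟨h * g * h⁻¹, ?_, ?_, ?_, ?_, ?_⟩ <;> simp only [mul_smul]
      · rw [hinv hsw.2, gb, hsw.2]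
      · rw [hinv hsw.1, ga, hsw.1]
      · rw [hinv hc, gc, hc]
      · rw [hinv hd, gd, hd]
      · rw [hinv hx, gx]
    · obtain ⟨g, ga, gb, gc, gd, gx⟩ := (hO _ _).1 hz
      refine (hO _ _).2 ⟨h⁻¹ * g * h, ?_, ?_, ?_, ?_, ?_⟩ <;> simp only [mul_smul]
      · rw [hsw.1, gb, hinv hsw.1]
      · rw [hsw.2, ga, hinv hsw.2]
      · rw [hc, gc, hinv hc]
      · rw [hd, gd, hinv hd]
      · rw [hx, gx]
  have hdis : Disjoint (O x) (O y) := by
    rw [Finset.disjoint_left]
    intro z hz hz'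
    obtain ⟨g, ga, gb, gc, gd, gx⟩ := (hO _ _).1 hz
    obtain ⟨k, ka, kb, kc, kd, ky⟩ := (hO _ _).1 hz'
    exact hno ⟨k⁻¹ * g, by rw [mul_smul, ga, hinv ka], by rw [mul_smul, gb, hinv kb],
      by rw [mul_smul, gc, hinv kc], by rw [mul_smul, gd, hinv kd], by rw [mul_smul, gx, hinv ky]⟩
  have hcover : O x ∪ O y = (((Finset.univ.erase a).erase b).erase c).erase d := by
    ext z
    simp only [Finset.mem_union, Finset.mem_erase, Finset.mem_univ, and_true]
    constructor
    · have aux : ∀ u, u ≠ a → u ≠ b → u ≠ c → u ≠ d → z ∈ O u → z ≠ d ∧ z ≠ c ∧ z ≠ b ∧ z ≠ a := by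
        intro u h1 h2 h4 h5 hz
        obtain ⟨g, ga, gb, gc, gd, rfl⟩ := (hO _ _).1 hz
        exact ⟨fun e => h5 (smul_left_cancel g (e.trans gd.symm)),
          fun e => h4 (smul_left_cancel g (e.trans gc.symm)),
          fun e => h2 (smul_left_cancel g (e.trans gb.symm)),
          fun e => h1 (smul_left_cancel g (e.trans ga.symm))⟩
      rintro (hz | hz)
      · exact aux x hxa hxb hxc hxd hz
      · exact aux y hya hyb hyc hyd hz
    · rintro ⟨hzd, hzc, hzb, hza⟩
      obtain ⟨g, hgM, gc, gd, gx⟩ := toM z ⟨hza, hzb, hzc, hzd⟩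
      rcases hgM with ⟨ga, gb⟩ | ⟨ga, gb⟩
      · exact Or.inl ((hO _ _).2 ⟨g, ga, gb, gc, gd, gx⟩)
      · refine Or.inr ((hO _ _).2 ⟨g * h⁻¹, ?_, ?_, ?_, ?_, ?_⟩) <;> rw [mul_smul]
        · rw [hinv hsw.2, gb]
        · rw [hinv hsw.1, ga]
        · rw [hinv hc, gc]
        · rw [hinv hd, gd]
        · rw [hinv hx, gx]
  have hc4 := congrArg Finset.card hcover
  obtain ⟨j, hj⟩ := hodd
  have hpos : 0 < (O x).card := Finset.card_pos.2 ⟨x, (hO _ _).2 ⟨1, one_smul _ _, one_smul _ _, one_smul _ _, one_smul _ _, one_smul _ _⟩⟩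
  rw [Finset.card_union_of_disjoint hdis, hcard, Finset.card_erase_of_mem (by simp [hcd.symm, hda, hdb]),
    Finset.card_erase_of_mem (by simp [hca, hcb]), Finset.card_erase_of_mem (by simp [hab.symm]),
    Finset.card_erase_of_mem (Finset.mem_univ _), Finset.card_univ, hΩ] at hc4
  omega

/-- A soluble transitive group of prime degree: the point stabiliser divides `q - 1`. -/
theorem stabilizer_card_dvd {K A : Type*} [Group K] [Finite K] [MulAction K A] [FaithfulSMul K A]
    [Finite A] {q : ℕ} [Fact q.Prime] (hA : Nat.card A = q) [IsPretransitive K A]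
    (hsol : Group.IsSolvable K) (c : A) : Nat.card ↥(stabilizer K c) ∣ q - 1 := by
  classical
  have hq := (Fact.out : q.Prime)
  obtain ⟨Q⟩ : Nonempty (Sylow q K) := inferInstance
  have hQn := Cfsg.Agent.Lie.PrimeLineOver.solvable_prime_normal hA hsol Q
  haveI := hQn
  have hQc := Cfsg.Agent.Lie.HalfNormalizer.sylow_card hA Q
  haveI : IsCyclic ↥(Q : Subgroup K) := isCyclic_of_prime_card hQc
  have hQne : (Q : Subgroup K) ≠ ⊥ := by
    intro h
    rw [h, Subgroup.card_bot] at hQc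
    exact hq.one_lt.ne hQc
  haveI := IsPreprimitive.of_prime_card (G := K) (X := A) (hA ▸ hq)
  haveI : IsPretransitive ↥(Q : Subgroup K) A := IsQuasiPreprimitive.isPretransitive_of_normal (G := K) fun h => hQne (by
    rw [eq_bot_iff]
    intro g hg
    refine Subgroup.mem_bot.2 (eq_of_smul_eq_smul fun x : A => ?_)
    rw [one_smul]
    exact (show x ∈ fixedPoints (↥(Q : Subgroup K)) A from h ▸ Set.mem_univ x) ⟨g, hg⟩)
  let f : ↥(stabilizer K c) →* MulAut ↥(Q : Subgroup K) :=
    (MulAut.conjNormal (H := (Q : Subgroup K))).comp (stabilizer K c).subtype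
  have hf : Function.Injective f := by
    rw [injective_iff_map_eq_one]
    rintro ⟨s, hs⟩ h
    refine Subtype.ext (eq_of_smul_eq_smul fun x : A => ?_)
    obtain ⟨⟨u, hu⟩, rfl⟩ := MulAction.exists_smul_eq ↥(Q : Subgroup K) c x
    have e : s * u * s⁻¹ = u := by
      have := congrArg (fun φ : MulAut ↥(Q : Subgroup K) => ((φ ⟨u, hu⟩ : ↥(Q : Subgroup K)) : K)) h
      simpa [f] using this
    rw [Subgroup.coe_one, one_smul]
    show s • u • c = u • c
    rw [← mul_smul, mul_inv_eq_iff_eq_mul.1 e, mul_smul, mem_stabilizer_iff.1 hs]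
  have h := Subgroup.card_dvd_of_injective f hf
  rwa [IsCyclic.card_mulAut, hQc, Nat.totient_prime hq] at h

section

variable {p q : ℕ} [Fact p.Prime] [Fact q.Prime] [Fintype Ω] [DecidableEq Ω]

/-- The stabiliser of two points, acting on the others, is insoluble. -/
theorem pair_insoluble [Finite G] [FaithfulSMul G Ω] (hΩ : Fintype.card Ω = p) (hpq : p = q + 2)
    (hq5 : 5 < q) (h3 : IsMultiplyPretransitive G Ω 3) (P : Sylow p G)
    (hN : 2 * Nat.card ↥(Subgroup.normalizer ((P : Subgroup G) : Set G)) = p * (p - 1))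
    {a b : Ω} (hab : a ≠ b) : ¬ Group.IsSolvable ↥(stabilizer G a ⊓ stabilizer G b) := by
  intro hsol
  have hp := (Fact.out : p.Prime)
  have hq := (Fact.out : q.Prime)
  set S := stabilizer G a ⊓ stabilizer G b with hS
  have hM : ∀ g ∈ S, ∀ x, (g • x ≠ a ∧ g • x ≠ b) ↔ (x ≠ a ∧ x ≠ b) := by
    intro g hg x
    obtain ⟨ga, gb⟩ := Subgroup.mem_inf.1 hg
    rw [mem_stabilizer_iff] at ga gb
    constructor
    · rintro ⟨h1, h2⟩; exact ⟨fun e => h1 (by rw [e, ga]), fun e => h2 (by rw [e, gb])⟩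
    · rintro ⟨h1, h2⟩
      exact ⟨fun e => h1 (smul_left_cancel g (e.trans ga.symm)),
        fun e => h2 (smul_left_cancel g (e.trans gb.symm))⟩
  let A := {x : Ω // x ≠ a ∧ x ≠ b}
  let φ : ↥S →* Equiv.Perm A := restrictHom S (fun x => x ≠ a ∧ x ≠ b) hM
  letI : MulAction ↥S A := MulAction.compHom A φ
  haveI : FaithfulSMul ↥S A := ⟨fun {g g'} e => by
    refine Subtype.ext (eq_of_smul_eq_smul fun x : Ω => ?_)
    obtain ⟨ga, gb⟩ := Subgroup.mem_inf.1 g.2
    obtain ⟨ga', gb'⟩ := Subgroup.mem_inf.1 g'.2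
    rw [mem_stabilizer_iff] at ga gb ga' gb'
    by_cases hx : x = a
    · rw [hx, ga, ga']
    by_cases hx' : x = b
    · rw [hx', gb, gb']
    exact congrArg Subtype.val (e ⟨x, hx, hx'⟩)⟩
  have hA : Nat.card A = q := by
    rw [Nat.card_eq_fintype_card, Fintype.card_subtype]
    have : (Finset.univ.filter fun x : Ω => x ≠ a ∧ x ≠ b) = (Finset.univ.erase a).erase b := by
      ext x; simp [and_comm]
    rw [this, Finset.card_erase_of_mem (by simp [hab.symm]), Finset.card_erase_of_mem (Finset.mem_univ _),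
      Finset.card_univ, hΩ]
    omega
  haveI : IsPretransitive ↥S A := ⟨fun x y => by
    obtain ⟨g, hg⟩ := h3.exists_smul_eq
      ⟨![a, b, (x : Ω)], fun i j h => by
        fin_cases i <;> fin_cases j <;>
          simp_all [x.2.1, x.2.2, x.2.1.symm, x.2.2.symm, hab, hab.symm]⟩
      ⟨![a, b, (y : Ω)], fun i j h => by
        fin_cases i <;> fin_cases j <;>
          simp_all [y.2.1, y.2.2, y.2.1.symm, y.2.2.symm, hab, hab.symm]⟩
    have e := fun i => DFunLike.congr_fun hg i
    have ea : g • a = a := e 0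
    have eb : g • b = b := e 1
    have ex : g • (x : Ω) = (y : Ω) := e 2
    exact ⟨⟨g, Subgroup.mem_inf.2 ⟨ea, eb⟩⟩, Subtype.ext ex⟩⟩
  obtain ⟨c⟩ : Nonempty A := (Nat.card_pos_iff.1 (hA ▸ hq.pos)).1
  have hd := stabilizer_card_dvd hA hsol c
  have hSc : Nat.card ↥S = q * Nat.card ↥(stabilizer ↥S c) := by
    rw [← Subgroup.card_mul_index (stabilizer ↥S c), index_stabilizer_of_transitive, hA, mul_comm]
  -- the number of Sylow subgroups
  have h2 : IsMultiplyPretransitive G Ω 2 := by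
    haveI := h3
    exact isMultiplyPretransitive_of_le (n := 3) (by norm_num) (by
      rw [Nat.card_eq_fintype_card, hΩ]; omega)
  haveI := h2
  haveI : IsPretransitive G Ω := MulAction.isPretransitive_of_is_two_pretransitive
  let ab : Fin 2 ↪ Ω := ⟨![a, b], fun i j h => by fin_cases i <;> fin_cases j <;> simp_all [hab.symm]⟩
  have hSab : stabilizer G ab = S := by
    ext g
    rw [hS, Subgroup.mem_inf, mem_stabilizer_iff, mem_stabilizer_iff, mem_stabilizer_iff]
    constructor
    · intro h; exact ⟨DFunLike.congr_fun h 0, DFunLike.congr_fun h 1⟩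
    · rintro ⟨h1, h2⟩
      ext i
      fin_cases i
      · exact h1
      · exact h2
  haveI : IsPretransitive G (Fin 2 ↪ Ω) := h2
  have hG : Nat.card G = Nat.card ↥S * (p * (p - 1)) := by
    rw [← Subgroup.card_mul_index (stabilizer G ab), index_stabilizer_of_transitive, hSab,
      Nat.card_eq_fintype_card (α := Fin 2 ↪ Ω), Fintype.card_embedding_eq, hΩ, Fintype.card_fin]
    congr 1
    simp [Nat.descFactorial]
    ring
  set d := Nat.card ↥(stabilizer ↥S c) with hd'
  have hidx : (Subgroup.normalizer ((P : Subgroup G) : Set G)).index = 2 * (q * d) := by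
    have h := Subgroup.card_mul_index (Subgroup.normalizer ((P : Subgroup G) : Set G))
    refine Nat.eq_of_mul_eq_mul_left (show 0 < p * (p - 1) from Nat.mul_pos hp.pos (by omega)) ?_
    calc p * (p - 1) * (Subgroup.normalizer ((P : Subgroup G) : Set G)).index
        = 2 * Nat.card G := by rw [← hN, mul_assoc, h]
      _ = p * (p - 1) * (2 * (q * d)) := by rw [hG, hSc]; ring
  have hmod := card_sylow_modEq_one p G
  rw [Sylow.card_eq_index_normalizer P] at hmod
  replace hmod : 2 * (q * d) ≡ 1 [MOD p] := hidx ▸ hmod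
  have hdvd : p ∣ 4 * d + 1 := by
    rw [← Nat.modEq_zero_iff_dvd]
    have e1 : 2 * (q * d) + 4 * d = p * (2 * d) := by rw [hpq]; ring
    calc 4 * d + 1 ≡ 4 * d + 2 * (q * d) [MOD p] := Nat.ModEq.add_left _ hmod.symm
      _ ≡ 0 [MOD p] := by rw [add_comm, e1]; exact Nat.modEq_zero_iff_dvd.2 (dvd_mul_right p _)
  have hdle : d ≤ q - 1 := Nat.le_of_dvd (by omega) hd
  obtain ⟨k, hk⟩ := hdvd
  obtain ⟨j, hj⟩ := hd
  have hk4 : k < 4 := by
    by_contra hk4
    have : p * 4 ≤ p * k := Nat.mul_le_mul_left p (by omega)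
    omega
  have hpodd := hp.eq_two_or_odd
  have hj5 : j < 5 := by
    by_contra hj5
    have : d * 5 ≤ d * j := Nat.mul_le_mul_left d (by omega)
    rcases Nat.eq_zero_or_pos k with hk0 | hk0
    · rw [hk0, mul_zero] at hk; omega
    · have : p * 1 ≤ p * k := Nat.mul_le_mul_left p hk0
      omega
  interval_cases k <;> interval_cases j <;> try omega
  all_goals
    rcases (show q = 9 ∨ p = 9 by omega) with e | e
    · rw [e] at hq; norm_num at hq
    · rw [e] at hp; norm_num at hp

/-- A group inducing a transitive action of prime degree `q` which has an insoluble subgroup and an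
element of even order normalising a Sylow `q`-subgroup is triply transitive. -/
theorem three_transitive_range {K A : Type*} [Group K] [Finite K] [Fintype A] [DecidableEq A]
    (hA : Fintype.card A = q) (φ : K →* Equiv.Perm A) (hφ : Function.Injective φ)
    (htr : ∀ x y, ∃ g, φ g x = y) (hins : ¬ Group.IsSolvable K) (Q : Sylow q K)
    (heven : Even (Nat.card ↥(Subgroup.normalizer ((Q : Subgroup K) : Set K)))) :
    IsMultiplyPretransitive φ.range A 3 := by
  haveI : IsPretransitive φ.range A := ⟨fun x y => by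
    obtain ⟨g, hg⟩ := htr x y
    exact ⟨⟨_, g, rfl⟩, hg⟩⟩
  let ψ : K →* φ.range := φ.rangeRestrict
  have hψ : Function.Bijective ψ :=
    ⟨fun x y e => hφ (congrArg Subtype.val e), MonoidHom.rangeRestrict_surjective _⟩
  refine Cfsg.Agent.S0676.result hA φ.range (fun h => hins ?_) (Q.mapSurjective hψ.2) ?_
  · haveI := h
    exact Group.isSolvable_of_isSolvable_injective (f := ψ) hψ.1
  · have hmap := Subgroup.map_normalizer_eq_of_bijective (Q : Subgroup K) (f := ψ) hψ
    rw [show ((Q.mapSurjective hψ.2 : Sylow q φ.range) : Subgroup φ.range) = (Q : Subgroup K).map ψ from rfl,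
      ← hmap, Nat.card_congr ((Subgroup.normalizer ((Q : Subgroup K) : Set K)).equivMapOfInjective ψ hψ.1).toEquiv.symm]
    exact heven

set_option maxHeartbeats 1600000 in
/-- Half Sylow normaliser in degree `q + 2`: five-fold transitivity. -/
theorem five_transitive (H : Subgroup (Equiv.Perm Ω)) [IsPretransitive H Ω]
    (hΩ : Fintype.card Ω = p) (hpq : p = q + 2) (hq5 : 5 < q) (hins : ¬ Group.IsSolvable H)
    (P : Sylow p H)
    (hN : 2 * Nat.card ↥(Subgroup.normalizer ((P : Subgroup H) : Set H)) = p * (p - 1)) :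
    IsMultiplyPretransitive H Ω 5 := by
  have hp := (Fact.out : p.Prime)
  have hq := (Fact.out : q.Prime)
  have hAlt : H ≤ alternatingGroup Ω := le_alternating hΩ (by omega) H P hN
  obtain ⟨C⟩ := Cfsg.Agent.Lie.HalfNormalizer.exists_coords (G := H) (Ω := Ω)
    (by rw [Nat.card_eq_fintype_card, hΩ]) (by omega) P hN
  have h3 := three_transitive (G := H) hΩ hins (by omega) C hq hpq
  have h3' : ∀ {a b c a' b' c' : Ω}, a ≠ b → a ≠ c → b ≠ c → a' ≠ b' → a' ≠ c' → b' ≠ c' →
      ∃ g : H, g • a = a' ∧ g • b = b' ∧ g • c = c' := by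
    intro a b c a' b' c' h1 h2 h4 h1' h2' h4'
    obtain ⟨g, hg⟩ := h3.exists_smul_eq
      ⟨![a, b, c], fun i j h => by fin_cases i <;> fin_cases j <;> simp_all [h1.symm, h2.symm, h4.symm]⟩
      ⟨![a', b', c'], fun i j h => by fin_cases i <;> fin_cases j <;> simp_all [h1'.symm, h2'.symm, h4'.symm]⟩
    exact ⟨g, DFunLike.congr_fun hg 0, DFunLike.congr_fun hg 1, DFunLike.congr_fun hg 2⟩
  -- the key: two fixed points and three free ones
  have key : ∀ a b c d x y : Ω, a ≠ b → c ≠ d → c ≠ a → c ≠ b → d ≠ a → d ≠ b →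
      x ≠ a → x ≠ b → x ≠ c → x ≠ d → y ≠ a → y ≠ b → y ≠ c → y ≠ d →
      ∃ g : H, g • a = a ∧ g • b = b ∧ g • c = c ∧ g • d = d ∧ g • x = y := by
    intro a b c d x y hab hcd hca hcb hda hdb hxa hxb hxc hxd hya hyb hyc hyd
    set S := stabilizer H a ⊓ stabilizer H b with hS
    have hSins := pair_insoluble (G := H) hΩ hpq hq5 h3 P hN hab
    set M := pairStab H a b with hM'
    have hSM : S ≤ M := fun g hg => by
      obtain ⟨g1, g2⟩ := Subgroup.mem_inf.1 hg
      exact Or.inl ⟨g1, g2⟩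
    have hM : ∀ g ∈ M, ∀ z, (g • z ≠ a ∧ g • z ≠ b) ↔ (z ≠ a ∧ z ≠ b) := by
      intro g hg z
      rcases hg with ⟨ga, gb⟩ | ⟨ga, gb⟩
      · constructor
        · rintro ⟨h1, h2⟩; exact ⟨fun e => h1 (by rw [e, ga]), fun e => h2 (by rw [e, gb])⟩
        · rintro ⟨h1, h2⟩
          exact ⟨fun e => h1 (smul_left_cancel g (e.trans ga.symm)),
            fun e => h2 (smul_left_cancel g (e.trans gb.symm))⟩
      · constructor
        · rintro ⟨h1, h2⟩; exact ⟨fun e => h2 (by rw [e, ga]), fun e => h1 (by rw [e, gb])⟩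
        · rintro ⟨h1, h2⟩
          exact ⟨fun e => h2 (smul_left_cancel g (e.trans gb.symm)),
            fun e => h1 (smul_left_cancel g (e.trans ga.symm))⟩
    let A := {z : Ω // z ≠ a ∧ z ≠ b}
    let φ : ↥M →* Equiv.Perm A := restrictHom M (fun z => z ≠ a ∧ z ≠ b) hM
    have hA : Fintype.card A = q := by
      rw [Fintype.card_subtype]
      have : (Finset.univ.filter fun z : Ω => z ≠ a ∧ z ≠ b) = (Finset.univ.erase a).erase b := by
        ext z; simp [and_comm]
      rw [this, Finset.card_erase_of_mem (by simp [hab.symm]), Finset.card_erase_of_mem (Finset.mem_univ _),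
        Finset.card_univ, hΩ]
      omega
    have hφ : Function.Injective φ := by
      rw [injective_iff_map_eq_one]
      intro g hg
      have hfix : ∀ z, z ≠ a → z ≠ b → (g : H) • z = z := fun z h1 h2 => by
        exact congrArg Subtype.val (Equiv.congr_fun hg ⟨z, h1, h2⟩)
      rcases g.2 with ⟨ga, gb⟩ | ⟨ga, gb⟩
      · refine Subtype.ext (eq_of_smul_eq_smul fun z : Ω => ?_)
        by_cases h1 : z = a
        · simp [h1, ga]
        by_cases h2 : z = b
        · simp [h2, gb]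
        rw [hfix z h1 h2]; simp
      · exfalso
        have hsw : ((g : H) : Equiv.Perm Ω) = Equiv.swap a b := by
          refine Equiv.ext fun z => ?_
          show (g : H) • z = _
          by_cases h1 : z = a
          · rw [h1, ga, Equiv.swap_apply_left]
          by_cases h2 : z = b
          · rw [h2, gb, Equiv.swap_apply_right]
          rw [hfix z h1 h2, Equiv.swap_apply_of_ne_of_ne h1 h2]
        have h := Equiv.Perm.mem_alternatingGroup.1 (hAlt (g : H).2)
        rw [hsw, Equiv.Perm.sign_swap hab] at h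
        exact absurd h (by decide)
    have htrM : ∀ u v : A, ∃ g : ↥M, φ g u = v := by
      intro u v
      obtain ⟨g, ga, gb, gu⟩ := h3' hab u.2.1.symm u.2.2.symm hab v.2.1.symm v.2.2.symm
      exact ⟨⟨g, Or.inl ⟨ga, gb⟩⟩, Subtype.ext gu⟩
    have hMins : ¬ Group.IsSolvable ↥M := fun h => hSins (by
      haveI := h
      exact Group.isSolvable_of_isSolvable_injective (f := Subgroup.inclusion hSM)
        (Subgroup.inclusion_injective hSM))
    set S' := S.subgroupOf M with hS'
    haveI hS'n : S'.Normal := ⟨fun n hn g => by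
      have hn' : ((n : ↥M) : H) ∈ S := hn
      obtain ⟨n1, n2⟩ := Subgroup.mem_inf.1 hn'
      rw [mem_stabilizer_iff] at n1 n2
      show ((g * n * g⁻¹ : ↥M) : H) ∈ S
      simp only [Subgroup.coe_mul, InvMemClass.coe_inv]
      rcases g.2 with ⟨ga, gb⟩ | ⟨ga, gb⟩
      · refine Subgroup.mem_inf.2 ⟨?_, ?_⟩ <;> rw [mem_stabilizer_iff, mul_smul, mul_smul]
        · rw [inv_smul_eq_iff.2 ga.symm, n1, ga]
        · rw [inv_smul_eq_iff.2 gb.symm, n2, gb]
      · refine Subgroup.mem_inf.2 ⟨?_, ?_⟩ <;> rw [mem_stabilizer_iff, mul_smul, mul_smul]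
        · rw [inv_smul_eq_iff.2 gb.symm, n2, gb]
        · rw [inv_smul_eq_iff.2 ga.symm, n1, ga]⟩
    obtain ⟨Q⟩ : Nonempty (Sylow q ↥M) := inferInstance
    have hQS : (Q : Subgroup ↥M) ≤ S' := by
      intro g hg
      rcases g.2 with ⟨ga, gb⟩ | ⟨ga, gb⟩
      · exact Subgroup.mem_inf.2 ⟨ga, gb⟩
      · exfalso
        obtain ⟨k, hk⟩ := Q.isPGroup' ⟨g, hg⟩
        have h1 : (g : H) ^ q ^ k = 1 := by
          have := congrArg (fun z : ↥(Q : Subgroup ↥M) => ((z : ↥M) : H)) hk
          simpa using this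
        have h2 := (even_orderOf_of_swap hab ga gb).two_dvd.trans (orderOf_dvd_of_pow_eq_one h1)
        have := (Nat.prime_dvd_prime_iff_eq Nat.prime_two hq).1 (Nat.prime_two.dvd_of_dvd_pow h2)
        omega
    have hev : Even (Nat.card ↥(Subgroup.normalizer ((Q : Subgroup ↥M) : Set ↥M))) := by
      obtain ⟨σ, hσa, hσb, -⟩ := h3' hab hca.symm hcb.symm hab.symm hcb.symm hca.symm
      have htop := Sylow.normalizer_sup_eq_top (N := S') (Q.subtype hQS)
      rw [Sylow.coe_subtype, Subgroup.subgroupOf_map_subtype, inf_eq_left.2 hQS] at htop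
      have hmem : (⟨σ, Or.inr ⟨hσa, hσb⟩⟩ : ↥M) ∈
          Subgroup.normalizer ((Q : Subgroup ↥M) : Set ↥M) ⊔ S' := htop ▸ Subgroup.mem_top _
      obtain ⟨n, hn, s, hs, e⟩ := Subgroup.mem_sup_of_normal_right.1 hmem
      obtain ⟨s1, s2⟩ := Subgroup.mem_inf.1 (show ((s : ↥M) : H) ∈ S from hs)
      rw [mem_stabilizer_iff] at s1 s2
      have e' : ((n : ↥M) : H) * (s : H) = σ := congrArg Subtype.val e
      have na : ((n : ↥M) : H) • a = b := by rw [← hσa, ← e', mul_smul, s1]
      have nb : ((n : ↥M) : H) • b = a := by rw [← hσb, ← e', mul_smul, s2]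
      have h1 := even_orderOf_of_swap hab na nb
      have h2 := Subgroup.orderOf_dvd_natCard _ hn
      rw [← Subgroup.orderOf_coe] at h2
      exact even_iff_two_dvd.2 (h1.two_dvd.trans h2)
    have hK := three_transitive_range (q := q) hA φ hφ htrM hMins Q hev
    have hMt : ∀ {u v w u' v' w' : A}, u ≠ v → u ≠ w → v ≠ w → u' ≠ v' → u' ≠ w' → v' ≠ w' →
        ∃ g : ↥M, φ g u = u' ∧ φ g v = v' ∧ φ g w = w' := by
      intro u v w u' v' w' h1 h2 h4 h1' h2' h4'
      obtain ⟨⟨_, g, rfl⟩, hg⟩ := hK.exists_smul_eq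
        ⟨![u, v, w], fun i j h => by fin_cases i <;> fin_cases j <;> simp_all [h1.symm, h2.symm, h4.symm]⟩
        ⟨![u', v', w'], fun i j h => by fin_cases i <;> fin_cases j <;> simp_all [h1'.symm, h2'.symm, h4'.symm]⟩
      exact ⟨g, DFunLike.congr_fun hg 0, DFunLike.congr_fun hg 1, DFunLike.congr_fun hg 2⟩
    -- transitivity of the pointwise stabiliser
    let c' : A := ⟨c, hca, hcb⟩
    let d' : A := ⟨d, hda, hdb⟩
    let x' : A := ⟨x, hxa, hxb⟩
    let y' : A := ⟨y, hya, hyb⟩
    have hc'd' : c' ≠ d' := fun e => hcd (congrArg Subtype.val e)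
    have toM : ∀ z : Ω, z ≠ a → z ≠ b → z ≠ c → z ≠ d →
        ∃ g : H, g ∈ M ∧ g • c = c ∧ g • d = d ∧ g • x = z := by
      intro z hza hzb hzc hzd
      obtain ⟨g, g1, g2, g3⟩ := hMt (u := c') (v := d') (w := x') (u' := c') (v' := d') (w' := ⟨z, hza, hzb⟩)
        hc'd' (fun e => hxc (congrArg Subtype.val e).symm) (fun e => hxd (congrArg Subtype.val e).symm)
        hc'd' (fun e => hzc (congrArg Subtype.val e).symm) (fun e => hzd (congrArg Subtype.val e).symm)
      exact ⟨g, g.2, congrArg Subtype.val g1, congrArg Subtype.val g2, congrArg Subtype.val g3⟩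
    exact transitive_of_half (G := H) hΩ (hp.odd_of_ne_two (by omega)) hab hcd hca hcb hda hdb ⟨hxa, hxb, hxc, hxd⟩
      ⟨hya, hyb, hyc, hyd⟩ fun z hz => by
        obtain ⟨g, hg, gc, gd, gx⟩ := toM z hz.1 hz.2.1 hz.2.2.1 hz.2.2.2
        exact ⟨g, hg, gc, gd, gx⟩
  classical
  refine Cfsg.Agent.Perm.isMultiplyPretransitive_of_fixing fun T hT x y hx hy => ?_
  obtain ⟨T', hTT', hT'U, hT'c⟩ := Finset.exists_subsuperset_card_eq
    (s := T) (t := Finset.univ \ {x, y}) (n := 4)
    (fun z hz => Finset.mem_sdiff.2 ⟨Finset.mem_univ _, fun e => by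
      simp only [Finset.mem_insert, Finset.mem_singleton] at e
      rcases e with rfl | rfl
      · exact hx hz
      · exact hy hz⟩) (by omega) (by
      rw [Finset.card_sdiff_of_subset (Finset.subset_univ _), Finset.card_univ, hΩ]
      have := Finset.card_le_two (a := x) (b := y)
      omega)
  obtain ⟨a, b, c, d, h1, h2, h4, h5, h6, h7, rfl⟩ := Finset.card_eq_four.1 hT'c
  have hxm : ∀ z ∈ ({a, b, c, d} : Finset Ω), x ≠ z ∧ y ≠ z := fun z hz => by
    have := hT'U hz
    simp only [Finset.mem_sdiff, Finset.mem_univ, true_and, Finset.mem_insert, Finset.mem_singleton,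
      not_or] at this
    exact ⟨fun e => this.1 e.symm, fun e => this.2 e.symm⟩
  obtain ⟨g, ga, gb, gc, gd, gx⟩ := key a b c d x y h1 h7 h2.symm h5.symm h4.symm h6.symm
    (hxm a (by simp)).1 (hxm b (by simp)).1 (hxm c (by simp)).1 (hxm d (by simp)).1
    (hxm a (by simp)).2 (hxm b (by simp)).2 (hxm c (by simp)).2 (hxm d (by simp)).2
  refine ⟨g, fun t ht => ?_, gx⟩
  have := hTT' ht
  simp only [Finset.mem_insert, Finset.mem_singleton] at this
  rcases this with rfl | rfl | rfl | rfl <;> assumption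

end

end Cfsg.Agent.Lie.TwinPrime
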